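import Cfsg.Agent.Lib.McLaughlin.System

/-!
# Components of rank one
-/

set_option autoImplicit false

namespace CfsgLib.McLaughlin

open Module

variable {F V : Type*} [Field F] [AddCommGroup V] [Module F V] [FiniteDimensional F V]
  {P : Set (V × Dual F V)} {S : Sys P}

namespace Comp

variable (C : Comp S) (hr : C.rank = 1)
include hr

theorem prop_axes {x : V} (hx : x ∈ C.pts) {φ ψ : Dual F V} (hφ : φ ∈ S.axes x) (hψ : ψ ∈ S.axes x)
    (h0 : φ ≠ 0) : ∃ c : F, ψ = c • φ := by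
  obtain ⟨c, hc⟩ := (finrank_eq_one_iff_of_nonzero' (⟨φ, hφ⟩ : S.axes x)
    (fun e => h0 (congrArg Subtype.val e))).1 ((C.rank_eq hx).trans hr) ⟨ψ, hψ⟩
  exact ⟨c, (congrArg Subtype.val hc).symm⟩

theorem vanish_symm {x y : V} (hy : y ∈ C.pts) {φ ψ : Dual F V}
    (hφ : φ ∈ S.axes x) (hψ : ψ ∈ S.axes y) (hψ0 : ψ ≠ 0) (h : φ y ≠ 0) : ψ x ≠ 0 := by
  obtain ⟨ψ', hψ', h'⟩ := C.adj_symm hy ⟨φ, hφ, h⟩
  obtain ⟨c, rfl⟩ := C.prop_axes hr hy hψ hψ' hψ0
  exact fun e => h' (by simp [e])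

theorem line_mem {x y : V} {φ ψ : Dual F V} (hx : x ∈ C.pts) (hy : y ∈ C.pts) (hφ : φ ∈ S.axes x)
    (hψ : ψ ∈ S.axes y) (hψ0 : ψ ≠ 0) (h : φ y ≠ 0) (m : F) :
    y + m • x ∈ C.pts ∧ ψ - (m * ψ x / φ y) • φ ∈ S.axes (y + m • x) := by
  by_cases hm : m = 0
  · subst hm
    simpa using ⟨hy, hψ⟩
  have hφ0 : φ ≠ 0 := fun e => h (by rw [e]; rfl)
  have hk := S.smulR (S.mem_of_axes hφ hφ0) (m / φ y) (div_ne_zero hm h)
  have h1 := S.conj hk (S.mem_of_axes hψ hψ0)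
  have e1 : ((m / φ y) • φ) y = m := by simp [h]
  have e2 : ψ - ψ x • (m / φ y) • φ = ψ - (m * ψ x / φ y) • φ := by
    rw [smul_smul, ← mul_div_assoc, mul_comm (ψ x)]
  rw [e1, e2] at h1
  refine ⟨C.sat' hx hφ ?_ h1, S.mem_axes_of_mem h1⟩
  simpa [S.apply_self hφ] using h

theorem line_pts {x y : V} (hx : x ∈ C.pts) (hy : y ∈ C.pts) (h : S.Adj x y) (m : F) :
    y + m • x ∈ C.pts := by
  obtain ⟨φ, hφ, hφy⟩ := C.adj_symm hx h
  obtain ⟨ψ, hψ⟩ := C.exists_axis hy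
  exact (C.line_mem hr hx hy hφ (S.mem_axes_of_mem hψ) (S.wf hψ).2.1 hφy m).1

theorem common_nb {x z : V} (hx : x ∈ C.pts) (hz : Relation.ReflTransGen S.Adj x z) :
    z ∈ C.pts ∧ ∃ u ∈ C.pts, S.Adj x u ∧ S.Adj z u := by
  induction hz with
  | refl => obtain ⟨y, hy, h1, -⟩ := C.exists_adj hx; exact ⟨hx, y, hy, h1, h1⟩
  | @tail z w _ h ih =>
    obtain ⟨hzC, u, hu, hxu, hzu⟩ := ih
    have hw : w ∈ C.pts := Relation.ReflTransGen.tail hzC h
    refine ⟨hw, ?_⟩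
    obtain ⟨φ, hφ, hφu⟩ := C.adj_symm hx hxu
    -- an axis of `w` missing `z`
    obtain ⟨χ, hχ, hχz⟩ : ∃ χ ∈ S.axes w, χ z ≠ 0 := h
    have good : ∀ u' ∈ C.pts, φ u' ≠ 0 → χ u' ≠ 0 → ∃ u ∈ C.pts, S.Adj x u ∧ S.Adj w u :=
      fun u' hu' h1 h2 => ⟨u', hu', C.adj_symm hu' ⟨φ, hφ, h1⟩, C.adj_symm hu' ⟨χ, hχ, h2⟩⟩
    by_cases h1 : χ u ≠ 0
    · exact good u hu hφu h1
    by_cases h2 : φ z ≠ 0
    · exact good z hzC h2 hχz
    push Not at h1 h2
    refine good _ (C.line_pts hr hu hzC (C.adj_symm hzC hzu) 1) ?_ ?_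
    · simp [h2, hφu]
    · simp [h1, hχz]

theorem exists_common {x z : V} (hx : x ∈ C.pts) (hz : z ∈ C.pts) :
    ∃ u ∈ C.pts, S.Adj x u ∧ S.Adj z u := by
  refine (C.common_nb hr hx ?_).2
  induction hx with
  | refl => exact hz
  | @tail y x' hy h ih => exact Relation.ReflTransGen.head (C.adj_symm hy h) ih

theorem scalar_of_zeros {φ ψ : Dual F V} (h : ∀ e ∈ C.pts, φ e = 0 ↔ ψ e = 0)
    {e₀ : V} (he₀ : e₀ ∈ C.pts) (hne : φ e₀ ≠ 0) :
    ∀ e ∈ C.pts, ψ e = ψ e₀ / φ e₀ * φ e := by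
  have step : ∀ e ∈ C.pts, ∀ e' ∈ C.pts, S.Adj e e' → φ e ≠ 0 → φ e' ≠ 0 →
      ψ e' / φ e' = ψ e / φ e := by
    intro e he e' he' hadj h1 h2
    have hq := (h _ (C.line_pts hr he he' hadj (-(φ e' / φ e)))).1 (by simp [h1])
    simp only [map_add, map_smul, smul_eq_mul] at hq
    field_simp at hq ⊢
    linear_combination hq
  intro e he
  by_cases h1 : φ e = 0
  · rw [h1, mul_zero, (h e he).1 h1]
  suffices key : ψ e / φ e = ψ e₀ / φ e₀ by
    rw [← key, div_mul_cancel₀ _ h1]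
  obtain ⟨u, hu, hu0, hue⟩ := C.exists_common hr he₀ he
  by_cases hφu : φ u ≠ 0
  · rw [step u hu e he (C.adj_symm he hue) hφu h1, step e₀ he₀ u hu hu0 hne hφu]
  push Not at hφu
  obtain ⟨η, hη, hηu⟩ := C.adj_symm he hue
  by_cases hη0 : η e₀ ≠ 0
  · exact step e₀ he₀ e he ⟨η, hη, hη0⟩ hne h1
  push Not at hη0
  obtain ⟨η₀, hη₀, hη₀u⟩ := C.adj_symm he₀ hu0
  have hu' := C.line_pts hr he₀ hu hu0 1
  have hφu' : φ (u + (1 : F) • e₀) ≠ 0 := by simp [hφu, hne]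
  rw [step _ hu' e he ⟨η, hη, by simp [hη0, hηu]⟩ hφu' h1]
  exact step e₀ he₀ _ hu' (C.adj_symm hu' ⟨η₀, hη₀, by simp [S.apply_self hη₀, hη₀u]⟩) hne hφu'

theorem exists_detect {a b : V} (ha : a ∈ C.pts) (hb : b ∈ C.pts) (hab : a + b ≠ 0)
    {φ : Dual F V} (hφ : φ ∈ S.axes a) (hφ0 : φ ≠ 0) (hφb : φ b = 0) :
    ∃ g ∈ C.pts, ∃ γ ∈ S.axes g, γ (a + b) ≠ 0 := by
  by_contra hno
  push Not at hno
  obtain ⟨ψ, hψP⟩ := C.exists_axis hb
  have hψ := S.mem_axes_of_mem hψP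
  have hψ0 := (S.wf hψP).2.1
  have hψa : ψ a = 0 := by
    by_contra h
    exact C.vanish_symm hr ha hψ hφ hφ0 h hφb
  have flip : ∀ e ∈ C.pts, φ e = 0 ↔ ψ e = 0 := by
    intro e he
    obtain ⟨η, hηP⟩ := C.exists_axis he
    have hη := S.mem_axes_of_mem hηP
    have hη0 := (S.wf hηP).2.1
    have hsum : η a + η b = 0 := by rw [← map_add]; exact hno e he η hη
    constructor <;> intro h <;> by_contra h'
    · have h1 := C.vanish_symm hr he hψ hη hη0 h'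
      have h2 : η a ≠ 0 := fun e0 => h1 (by simpa [e0] using hsum)
      exact C.vanish_symm hr ha hη hφ hφ0 h2 h
    · have h1 := C.vanish_symm hr he hφ hη hη0 h'
      have h2 : η b ≠ 0 := fun e0 => h1 (by simpa [e0] using hsum)
      exact C.vanish_symm hr hb hη hψ hψ0 h2 h
  obtain ⟨e₀, hφe₀, he₀⟩ : ∃ e₀, φ e₀ ≠ 0 ∧ e₀ ∈ C.pts := by
    by_contra h
    push Not at h
    exact hφ0 (C.eq_zero_of_killed ha hφ fun y hy => by_contra fun e => h y e hy)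
  have hψe₀ : ψ e₀ ≠ 0 := fun e => hφe₀ ((flip e₀ he₀).2 e)
  have hc : φ e₀ / ψ e₀ ≠ 0 := div_ne_zero hφe₀ hψe₀
  have hsc := C.scalar_of_zeros hr (φ := ψ) (ψ := φ) (fun e he => (flip e he).symm) he₀ hψe₀
  refine S.noRad (S.mem_of_axes hφ hφ0) (S.smulR hψP _ hc) hφb (by simp [hψa]) ?_ fun e η he => ?_
  · rw [LinearIndependent.pair_iff' (C.ne_zero ha)]
    intro t ht
    obtain ⟨y, hy, -, -⟩ := C.exists_adj ha
    obtain ⟨z, hz, ⟨χ, hχ, hχa⟩, -⟩ := C.exists_adj ha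
    have h1 := hno z hz χ hχ
    rw [← ht, map_add, map_smul, smul_eq_mul] at h1
    have h2 : (1 + t) * χ a = 0 := by linear_combination h1
    have h3 : 1 + t = 0 := (mul_eq_zero.1 h2).resolve_right hχa
    refine hab ?_
    rw [← ht]
    calc a + t • a = (1 + t) • a := by rw [add_smul, one_smul]
      _ = 0 := by rw [h3, zero_smul]
  · by_cases hec : e ∈ C.pts
    · exact ⟨hno e hec η (S.mem_axes_of_mem he), by rw [LinearMap.smul_apply, smul_eq_mul]; exact hsc e hec⟩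
    · exact ⟨by rw [map_add, C.kills_pts he hec ha, C.kills_pts he hec hb, add_zero],
        by simp [C.U_kills he hec (C.axes_le_U ha hφ), C.U_kills he hec (C.axes_le_U hb hψ)]⟩

theorem exists_good_aux {a b g : V} (ha : a ∈ C.pts) (hg : g ∈ C.pts) {γ : Dual F V}
    (hγ : γ ∈ S.axes g) (hs : γ (a + b) ≠ 0) (hb0 : γ b ≠ 0) :
    ∃ e ∈ C.pts, ∃ χ ∈ S.axes e, χ a ≠ 0 ∧ χ b ≠ 0 ∧ χ (a + b) ≠ 0 := by
  by_cases hγa : γ a ≠ 0
  · exact ⟨g, hg, γ, hγ, hγa, hb0, hs⟩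
  push Not at hγa
  have hγ0 : γ ≠ 0 := fun e => hb0 (by rw [e]; rfl)
  obtain ⟨c₀, hc₀, hac₀, φ, hφ, hφc₀⟩ := C.exists_adj ha
  have hφ0 : φ ≠ 0 := fun e => hφc₀ (by rw [e]; rfl)
  obtain ⟨c, hc, hφc, hγc⟩ : ∃ c ∈ C.pts, φ c ≠ 0 ∧ γ c ≠ 0 := by
    by_cases h : γ c₀ ≠ 0
    · exact ⟨c₀, hc₀, hφc₀, h⟩
    push Not at h
    obtain ⟨v, hv, hgv, hcv⟩ := C.exists_common hr hg hc₀
    obtain ⟨γ', hγ', hγ'v⟩ := C.adj_symm hg hgv
    obtain ⟨t, rfl⟩ := C.prop_axes hr hg hγ hγ' hγ0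
    have hγv : γ v ≠ 0 := fun e => hγ'v (by simp [e])
    by_cases h' : φ v ≠ 0
    · exact ⟨v, hv, h', hγv⟩
    push Not at h'
    exact ⟨_, C.line_pts hr hc₀ hv hcv 1, by simp [h', hφc₀], by simp [h, hγv]⟩
  obtain ⟨η, hηP⟩ := C.exists_axis hc
  have hη := S.mem_axes_of_mem hηP
  have hη0 := (S.wf hηP).2.1
  have hηa := C.vanish_symm hr hc hφ hη hη0 hφc
  have hηg := C.vanish_symm hr hc hγ hη hη0 hγc
  by_cases hboth : η b ≠ 0 ∧ η (a + b) ≠ 0
  · exact ⟨c, hc, η, hη, hηa, hboth.1, hboth.2⟩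
  obtain ⟨k, hk0, hk1, hk2⟩ : ∃ k : F, k ≠ 0 ∧ γ b - k * η b ≠ 0 ∧ γ b - k * η (a + b) ≠ 0 := by
    have pick : ∀ r : F, ∃ k : F, k ≠ 0 ∧ γ b - k * r ≠ 0 := by
      intro r
      by_cases h : γ b - 1 * r = 0
      · refine ⟨-1, neg_ne_zero.2 one_ne_zero, fun e => hb0 ?_⟩
        have : (2 : F) * γ b = 0 := by linear_combination h + e
        exact (mul_eq_zero.1 this).resolve_left S.two
      · exact ⟨1, one_ne_zero, h⟩
    by_cases h : η b = 0
    · obtain ⟨k, h1, h2⟩ := pick (η (a + b))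
      exact ⟨k, h1, by simp [h, hb0], h2⟩
    · obtain ⟨k, h1, h2⟩ := pick (η b)
      have h' : η (a + b) = 0 := by
        by_contra h'
        exact hboth ⟨h, h'⟩
      exact ⟨k, h1, h2, by simp only [h', mul_zero, sub_zero]; exact hb0⟩
  obtain ⟨h1, h2⟩ := C.line_mem hr hc hg hη hγ hγ0 hηg (k * η g / γ c)
  rw [show k * η g / γ c * γ c / η g = k by field_simp] at h2
  refine ⟨_, h1, _, h2, ?_, ?_, ?_⟩
  · simp [hγa, hk0, hηa]
  · simpa using hk1
  · intro e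
    apply hk2
    simp only [LinearMap.sub_apply, LinearMap.smul_apply, smul_eq_mul, map_add, hγa] at e ⊢
    linear_combination e

theorem exists_good {a b : V} (ha : a ∈ C.pts) (hb : b ∈ C.pts) (hab : a + b ≠ 0) {φ : Dual F V}
    (hφ : φ ∈ S.axes a) (hφ0 : φ ≠ 0) (hφb : φ b = 0) :
    ∃ e ∈ C.pts, ∃ χ ∈ S.axes e, χ a ≠ 0 ∧ χ b ≠ 0 ∧ χ (a + b) ≠ 0 := by
  obtain ⟨g, hg, γ, hγ, hs⟩ := C.exists_detect hr ha hb hab hφ hφ0 hφb
  by_cases h : γ b = 0
  · rw [add_comm] at hs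
    obtain ⟨e, he, χ, hχ, h1, h2, h3⟩ := C.exists_good_aux hr hb hg hγ hs (fun e => hs (by simp [h, e]))
    exact ⟨e, he, χ, hχ, h2, h1, by rwa [add_comm]⟩
  · exact C.exists_good_aux hr ha hg hγ hs h

theorem symp_add_mem {a b : V} (ha : a ∈ C.pts) (hb : b ∈ C.pts) (hab : a + b ≠ 0) :
    a + b ∈ C.pts := by
  obtain ⟨φ, hφP⟩ := C.exists_axis ha
  have hφ := S.mem_axes_of_mem hφP
  have hφ0 := (S.wf hφP).2.1
  have add_adj : ∀ {x y : V}, x ∈ C.pts → y ∈ C.pts → S.Adj y x → x + y ∈ C.pts := fun {x y} hx hy h => by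
    simpa [one_smul, add_comm] using C.line_pts hr hx hy (C.adj_symm hy h) 1
  by_cases h : φ b ≠ 0
  · exact add_adj ha hb ⟨φ, hφ, h⟩
  push Not at h
  obtain ⟨e, he, χ, hχ, h1, h2, h3⟩ := C.exists_good hr ha hb hab hφ hφ0 h
  have hae : a + e ∈ C.pts := add_adj ha he (C.adj_symm ha ⟨χ, hχ, h1⟩)
  obtain ⟨ψ, hψ, hψe⟩ := C.adj_symm hb (show S.Adj b e from ⟨χ, hχ, h2⟩)
  have hψa : ψ a = 0 := by
    by_contra hne
    exact C.vanish_symm hr ha hψ hφ hφ0 hne h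
  have hq : a + e + b ∈ C.pts :=
    add_adj hae hb (C.adj_symm hae ⟨ψ, hψ, by simp [hψa, hψe]⟩)
  have hq2 := C.line_pts hr he hq (C.adj_symm hq ⟨χ, hχ, by
    simp only [map_add, S.apply_self hχ, add_zero]; simpa using h3⟩) (-1)
  simpa [neg_one_smul, add_comm, add_left_comm, add_assoc] using hq2

/-- The points together with zero, as a subspace. -/
def sympSpace : Submodule F V where
  carrier := {x | x = 0 ∨ x ∈ C.pts}
  zero_mem' := Or.inl rfl
  add_mem' := by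
    rintro x y (rfl | hx) (rfl | hy)
    · exact Or.inl (add_zero _)
    · exact Or.inr (by rwa [zero_add])
    · exact Or.inr (by rwa [add_zero])
    · by_cases h : x + y = 0
      · exact Or.inl h
      · exact Or.inr (C.symp_add_mem hr hx hy h)
  smul_mem' := by
    rintro c x (rfl | hx)
    · exact Or.inl (smul_zero c)
    · by_cases hc : c = 0
      · exact Or.inl (by rw [hc, zero_smul])
      · exact Or.inr (C.smul_mem hx hc)

theorem exists_norm {a₀ : V} {φ₀ : Dual F V} (ha₀ : a₀ ∈ C.pts) (hφ₀ : φ₀ ∈ S.axes a₀) :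
    ∃ N : V → Dual F V, ∀ y ∈ C.pts, φ₀ y ≠ 0 → N y ∈ S.axes y ∧ N y a₀ = -φ₀ y := by
  have h : ∀ y : V, ∃ ψ : Dual F V, y ∈ C.pts → φ₀ y ≠ 0 → ψ ∈ S.axes y ∧ ψ a₀ = -φ₀ y := by
    intro y
    by_cases hy : y ∈ C.pts ∧ φ₀ y ≠ 0
    · obtain ⟨ψ, hψ, hψ0⟩ := C.adj_symm hy.1 (show S.Adj y a₀ from ⟨φ₀, hφ₀, hy.2⟩)
      exact ⟨(-φ₀ y / ψ a₀) • ψ, fun _ _ => ⟨Submodule.smul_mem _ _ hψ, by simp [hψ0]⟩⟩
    · exact ⟨0, fun h1 h2 => absurd ⟨h1, h2⟩ hy⟩
  choose N hN using h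
  exact ⟨N, hN⟩

theorem triangle {x y z : V} (hx : x ∈ C.pts) (hy : y ∈ C.pts) (hz : z ∈ C.pts) {φ ψ χ : Dual F V}
    (hφ : φ ∈ S.axes x) (hψ : ψ ∈ S.axes y) (hχ : χ ∈ S.axes z) (h1 : φ y ≠ 0) (h2 : φ z ≠ 0)
    (e1 : ψ x = -φ y) (e2 : χ x = -φ z) : ψ z = -χ y := by
  have hψ0 : ψ ≠ 0 := fun e => h1 (by simpa [e] using e1.symm)
  have hχ0 : χ ≠ 0 := fun e => h2 (by simpa [e] using e2.symm)
  by_cases h : ψ z = 0
  · have : χ y = 0 := by
      by_contra h'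
      exact C.vanish_symm hr hy hχ hψ hψ0 h' h
    rw [h, this, neg_zero]
  set m := -ψ z / φ z
  obtain ⟨hq, hθ⟩ := C.line_mem hr hx hy hφ hψ hψ0 h1 m
  set θ := ψ - (m * ψ x / φ y) • φ with hθdef
  have hθz : θ z = 0 := by
    simp only [hθdef, LinearMap.sub_apply, LinearMap.smul_apply, smul_eq_mul, e1, m]
    field_simp
    ring
  have hθ0 : θ ≠ 0 := fun e => h1 (by
    have h' : θ x = 0 := by rw [e]; rfl
    simpa [hθdef, S.apply_self hφ, e1] using h')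
  have hχq : χ (y + m • x) = 0 := by
    by_contra h'
    exact C.vanish_symm hr hq hχ hθ hθ0 h' hθz
  simp only [map_add, map_smul, smul_eq_mul, e2, m] at hχq
  field_simp at hχq
  linear_combination hχq

theorem exists_sympForm :
    ∃ f : C.sympSpace hr →ₗ[F] Dual F V,
      (∀ x : C.sympSpace hr, f x ∈ S.axes (x : V)) ∧ (∀ x, x ≠ 0 → f x ≠ 0) ∧
      (∀ x y : C.sympSpace hr, f x (y : V) = -f y (x : V)) := by
  classical
  obtain ⟨φ₀, hφ₀P⟩ := C.base_axis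
  have hφ₀ := S.mem_axes_of_mem hφ₀P
  obtain ⟨N, hN⟩ := C.exists_norm hr C.base_mem hφ₀
  set L := C.sympSpace hr with hL
  let s : Set V := {y | y ∈ C.pts ∧ φ₀ y ≠ 0}
  obtain ⟨s₀, hs₀, -, hs₀φ⟩ : ∃ s₀ ∈ C.pts, True ∧ φ₀ s₀ ≠ 0 := by
    by_contra h
    push Not at h
    exact (S.wf hφ₀P).2.1 (C.eq_zero_of_killed C.base_mem hφ₀ fun y hy => h y hy trivial)
  have hspan : ∀ x ∈ L, x ∈ Submodule.span F s := by
    intro x hx
    by_cases h : φ₀ x ≠ 0
    · refine Submodule.subset_span ⟨hx.resolve_left fun e => h (by simp [e]), h⟩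
    push Not at h
    have hmem : x + s₀ ∈ L := add_mem hx (Or.inr hs₀)
    have hne : φ₀ (x + s₀) ≠ 0 := by simp [h, hs₀φ]
    have h1 : x + s₀ ∈ Submodule.span F s :=
      Submodule.subset_span ⟨hmem.resolve_left fun e => hne (by simp [e]), hne⟩
    have h2 : s₀ ∈ Submodule.span F s := Submodule.subset_span ⟨hs₀, hs₀φ⟩
    simpa using sub_mem h1 h2
  have hspan' : ∀ (ξ ξ' : Dual F V), (∀ y ∈ s, ξ y = ξ' y) → ∀ x ∈ L, ξ x = ξ' x :=
    fun ξ ξ' h x hx => LinearMap.eqOn_span h (hspan x hx)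
  have hsL : Submodule.span F s ≤ L := Submodule.span_le.2 fun y hy => Or.inr hy.1
  have hanti : ∀ y ∈ s, ∀ z ∈ s, N y z = -N z y := fun y hy z hz =>
    C.triangle hr C.base_mem hy.1 hz.1 hφ₀ (hN y hy.1 hy.2).1 (hN z hz.1 hz.2).1 hy.2 hz.2
      (hN y hy.1 hy.2).2 (hN z hz.1 hz.2).2
  have hrep : ∀ x ∈ L, ∃ ξ : Dual F V, ∀ y ∈ s, ξ y = -N y x := by
    intro x hx
    induction hspan x hx using Submodule.span_induction with
    | mem z hz => exact ⟨N z, fun y hy => hanti z hz y hy⟩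
    | zero => exact ⟨0, fun y _ => by simp⟩
    | add u v hu hv ihu ihv =>
      obtain ⟨ξ, h1⟩ := ihu (hsL hu)
      obtain ⟨ξ', h2⟩ := ihv (hsL hv)
      exact ⟨ξ + ξ', fun y hy => by simp [h1 y hy, h2 y hy, add_comm]⟩
    | smul c u hu ihu =>
      obtain ⟨ξ, h1⟩ := ihu (hsL hu)
      exact ⟨c • ξ, fun y hy => by simp [h1 y hy]⟩
  have hflip : ∀ y ∈ L, ∀ x ∈ L, ∀ ξ η : Dual F V, (∀ t ∈ s, ξ t = -N t x) →
      (∀ t ∈ s, η t = -N t y) → ξ y = -η x := by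
    intro y hy x hx ξ η hξ
    induction hspan y hy using Submodule.span_induction generalizing η with
    | mem z hz =>
      intro hη
      rw [hξ z hz, hspan' η (N z) (fun t ht => by rw [hη t ht, hanti z hz t ht]) x hx]
    | zero =>
      intro hη
      rw [map_zero, hspan' η 0 (fun t ht => by simp [hη t ht]) x hx]; simp
    | add u v hu hv ihu ihv =>
      intro hη
      obtain ⟨μ, hμ⟩ := hrep u (hsL hu)
      obtain ⟨ν, hν⟩ := hrep v (hsL hv)
      rw [map_add, ihu (hsL hu) μ hμ, ihv (hsL hv) ν hν,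
        hspan' η (μ + ν) (fun t ht => by simp [hη t ht, hμ t ht, hν t ht, add_comm]) x hx]
      simp [add_comm]
    | smul c u hu ihu =>
      intro hη
      obtain ⟨μ, hμ⟩ := hrep u (hsL hu)
      rw [map_smul, ihu (hsL hu) μ hμ,
        hspan' η (c • μ) (fun t ht => by simp [hη t ht, hμ t ht]) x hx]
      simp
  have hgood : ∀ x : L, ∃ f : Dual F V, f ∈ S.axes (x : V) ∧ ∀ t ∈ s, f t = -N t x := by
    rintro ⟨x, hx⟩
    rcases hx with rfl | hx
    · exact ⟨0, zero_mem _, fun t _ => by simp⟩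
    obtain ⟨ξ, hξ⟩ := hrep x (Or.inr hx)
    obtain ⟨ψ, hψP⟩ := C.exists_axis hx
    have hψ := S.mem_axes_of_mem hψP
    have hψ0 := (S.wf hψP).2.1
    have hzero : ∀ t ∈ s, (ψ t = 0 ↔ ξ t = 0) := by
      intro t ht
      obtain ⟨hNt, hNt0⟩ := hN t ht.1 ht.2
      have hne : N t ≠ 0 := fun e => ht.2 (by simpa [e] using hNt0.symm)
      rw [hξ t ht, neg_eq_zero]
      constructor <;> intro h <;> by_contra h'
      · exact C.vanish_symm hr hx hNt hψ hψ0 h' h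
      · exact C.vanish_symm hr ht.1 hψ hNt hne h' h
    obtain ⟨y₀, hy₀, hψy₀⟩ : ∃ y₀ ∈ s, ψ y₀ ≠ 0 := by
      by_contra h
      push Not at h
      exact hψ0 (C.eq_zero_of_killed hx hψ fun y hy => hspan' ψ 0 h y (Or.inr hy))
    set c := ξ y₀ / ψ y₀ with hc
    refine ⟨c • ψ, Submodule.smul_mem _ _ hψ, fun t ht => ?_⟩
    rw [← hξ t ht, LinearMap.smul_apply, smul_eq_mul]
    set z := t - (ψ t / ψ y₀) • y₀ with hz
    have hψz : ψ z = 0 := by simp [hz, hψy₀]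
    have hzL : z ∈ L := sub_mem (Or.inr ht.1) (L.smul_mem _ (Or.inr hy₀.1))
    have hξz : ξ z = 0 := by
      by_cases h : φ₀ z ≠ 0
      · exact (hzero z ⟨hzL.resolve_left fun e => h (by simp [e]), h⟩).1 hψz
      push Not at h
      by_contra h'
      have hw : y₀ + (-ξ y₀ / ξ z) • z ∈ L := add_mem (Or.inr hy₀.1) (L.smul_mem _ hzL)
      have hne : φ₀ (y₀ + (-ξ y₀ / ξ z) • z) ≠ 0 := by simp [h, hy₀.2]
      have := (hzero _ ⟨hw.resolve_left fun e => hne (by simp [e]), hne⟩).2 (by simp [h'])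
      exact hψy₀ (by simpa [hψz] using this)
    simp only [hz, map_sub, map_smul, smul_eq_mul, sub_eq_zero] at hξz
    rw [hξz, hc]
    ring
  choose f hf1 hf2 using hgood
  have huniq : ∀ (x : L) (g : Dual F V), g ∈ S.axes (x : V) → (∀ y ∈ L, g y = f x y) → g = f x := by
    intro x g hg h
    rcases x.2 with hx | hx
    · rw [hx] at hg
      have h0 : ∀ θ ∈ S.axes (0 : V), θ = 0 := fun θ hθ => hθ.resolve_right fun hP => (S.wf hP).1 rfl
      rw [h0 g hg]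
      exact (h0 _ (by have := hf1 x; rwa [hx] at this)).symm
    · exact sub_eq_zero.1 (C.eq_zero_of_killed hx (sub_mem hg (hf1 x))
        fun y hy => by simp [h y (Or.inr hy)])
  have hanti' : ∀ x y : L, f x y = -f y x := fun x y =>
    hflip y y.2 x x.2 (f x) (f y) (hf2 x) (hf2 y)
  have huniq' : ∀ (x : L) (g : Dual F V), g ∈ S.axes (x : V) → (∀ t : L, g t = -f t x) → g = f x :=
    fun x g hg h => huniq x g hg fun y hy => by rw [show g y = g (⟨y, hy⟩ : L) from rfl, h, ← hanti']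
  have hsmul : ∀ (c : F) (x : L), f (c • x) = c • f x := by
    intro c x
    refine (huniq _ _ ?_ fun y hy => ?_).symm
    · by_cases hc : c = 0
      · subst hc; simp
      · rw [Submodule.coe_smul, S.axes_smul hc]; exact Submodule.smul_mem _ _ (hf1 x)
    · have h1 := hanti' (c • x) ⟨y, hy⟩
      have h2 := hanti' x ⟨y, hy⟩
      simp only [Submodule.coe_smul, map_smul] at h1
      rw [LinearMap.smul_apply, h1, h2, smul_neg]
  have hne0 : ∀ x : L, x ≠ 0 → f x ≠ 0 := by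
    intro x hx he
    have hxC : (x : V) ∈ C.pts := x.2.resolve_left fun e => hx (Subtype.ext e)
    obtain ⟨y, hy, ⟨η, hη, hηx⟩, -⟩ := C.exists_adj hxC
    by_cases hfy : f ⟨y, Or.inr hy⟩ (x : V) = 0
    · by_cases hy0 : f ⟨y, Or.inr hy⟩ = 0
      · have hkill : ∀ t ∈ s, η t = 0 := by
          intro t ht
          by_contra h
          obtain ⟨hNt, hNt0⟩ := hN t ht.1 ht.2
          have hne : N t ≠ 0 := fun e => ht.2 (by simpa [e] using hNt0.symm)
          have h1 := hf2 ⟨y, Or.inr hy⟩ t ht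
          rw [hy0] at h1
          exact C.vanish_symm hr ht.1 hη hNt hne h (by simpa using h1.symm)
        exact hηx (hspan' η 0 hkill _ x.2)
      · obtain ⟨c, rfl⟩ := C.prop_axes hr hy (hf1 ⟨y, Or.inr hy⟩) hη hy0
        exact hηx (by simp [hfy])
    · have := hanti' x ⟨y, Or.inr hy⟩
      rw [he] at this
      exact hfy (by simpa using this.symm)
  have hadd_adj : ∀ x y : L, f x y ≠ 0 → f (x + y) = f x + f y := by
    intro x y h
    have hxC : (x : V) ∈ C.pts := x.2.resolve_left fun e => h (by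
      have := hanti' x y; rw [this, e, map_zero, neg_zero])
    have hyC : (y : V) ∈ C.pts := y.2.resolve_left fun e => h (by rw [e, map_zero])
    have hfy : f y ≠ 0 := hne0 y fun e => h (by rw [e]; simp)
    obtain ⟨-, h2⟩ := C.line_mem hr hxC hyC (hf1 x) (hf1 y) hfy h 1
    have e : f y - (1 * f y x / f x y) • f x = f x + f y := by
      rw [hanti' y x, one_mul, neg_div, div_self h, show ((-1 : F) • f x : Dual F V) = -f x by module, sub_neg_eq_add, add_comm]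
    rw [e, one_smul, add_comm (y : V)] at h2
    refine (huniq' (x + y) (f x + f y) h2 fun t => ?_).symm
    rw [LinearMap.add_apply, hanti' x t, hanti' y t, Submodule.coe_add, map_add]
    ring
  have hadd : ∀ x y : L, f (x + y) = f x + f y := by
    intro x y
    by_cases h : f x y ≠ 0
    · exact hadd_adj x y h
    push Not at h
    have hz : f 0 = 0 := by simpa using hsmul 0 0
    rcases eq_or_ne x 0 with rfl | hx
    · rw [zero_add, hz, zero_add]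
    rcases eq_or_ne y 0 with rfl | hy
    · rw [add_zero, hz, add_zero]
    by_cases hxy : x + y = 0
    · have hy' : y = (-1 : F) • x := by rw [neg_one_smul]; exact eq_neg_of_add_eq_zero_right hxy
      rw [hxy, hz, hy', hsmul]; module
    have hxC : (x : V) ∈ C.pts := x.2.resolve_left fun e => hx (Subtype.ext e)
    have hyC : (y : V) ∈ C.pts := y.2.resolve_left fun e => hy (Subtype.ext e)
    obtain ⟨e, he, χ, hχ, h1, h2, h3⟩ := C.exists_good hr hxC hyC (fun e' => hxy (Subtype.ext e'))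
      (hf1 x) (hne0 x hx) h
    set E : L := ⟨e, Or.inr he⟩
    have hE : f E ≠ 0 := hne0 E fun e' => C.ne_zero he (congrArg Subtype.val e')
    obtain ⟨c, rfl⟩ := C.prop_axes hr he (hf1 E) hχ hE
    simp only [LinearMap.smul_apply, smul_eq_mul, mul_ne_zero_iff] at h1 h2 h3
    have g1 : f x E ≠ 0 := by rw [hanti' x E]; exact neg_ne_zero.2 h1.2
    have g2 : f (x + E) y ≠ 0 := by
      rw [hadd_adj x E g1, LinearMap.add_apply, h, zero_add]; exact h2.2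
    have g3 : f (x + y) E ≠ 0 := by
      rw [hanti' (x + y) E, Submodule.coe_add]; exact neg_ne_zero.2 h3.2
    have k1 := hadd_adj (x + E) y g2
    have k2 := hadd_adj (x + y) E g3
    rw [add_right_comm] at k2
    rw [k1, hadd_adj x E g1] at k2
    rw [add_right_comm] at k2
    exact (add_right_cancel k2).symm
  exact ⟨⟨⟨f, hadd⟩, hsmul⟩, hf1, hne0, hanti'⟩

end Comp

end CfsgLib.McLaughlin
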