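import Cfsg.Agent.Lib.McLaughlin.CompLin
import Cfsg.Agent.Lib.McLaughlin.CompSymp

/-!
# A system splits into orthogonal full and symplectic blocks
-/

set_option autoImplicit false

namespace CfsgLib.McLaughlin

open Module

variable {F V : Type*} [Field F] [AddCommGroup V] [Module F V]

/-- All pairs of the block occur. -/
def IsFull (P : Set (V × Dual F V)) (L : Submodule F V) (U : Submodule F (Dual F V)) : Prop :=
  ∀ a ∈ L, a ≠ 0 → ∀ φ ∈ U, φ ≠ 0 → φ a = 0 → (a, φ) ∈ P

/-- The pairs of the block are those of an alternating form. -/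
def IsSymp (P : Set (V × Dual F V)) (L : Submodule F V) (U : Submodule F (Dual F V)) : Prop :=
  ∃ f : L →ₗ[F] Dual F V, (∀ x, f x ∈ U) ∧ (∀ x, x ≠ 0 → f x ≠ 0) ∧
    (∀ x y : L, f x (y : V) = -f y (x : V)) ∧
    (∀ (x : L) (c : F), x ≠ 0 → c ≠ 0 → ((x : V), c • f x) ∈ P) ∧
    ∀ a φ, (a, φ) ∈ P → ∀ h : a ∈ L, ∃ c : F, φ = c • f ⟨a, h⟩

/-- One summand of the decomposition. -/
structure Block (P : Set (V × Dual F V)) (L : Submodule F V) (U : Submodule F (Dual F V)) : Prop where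
  spanL : L ≤ Submodule.span F {a | ∃ φ ∈ U, (a, φ) ∈ P}
  spanU : U ≤ Submodule.span F {φ | ∃ a ∈ L, (a, φ) ∈ P}
  ndL : ∀ x ∈ L, (∀ u ∈ U, u x = 0) → x = 0
  ndU : ∀ u ∈ U, (∀ x ∈ L, u x = 0) → u = 0
  type : IsFull P L U ∨ IsSymp P L U

theorem block_bot (P : Set (V × Dual F V)) : Block P ⊥ ⊥ where
  spanL := bot_le
  spanU := bot_le
  ndL x hx _ := (Submodule.mem_bot F).1 hx
  ndU u hu _ := (Submodule.mem_bot F).1 hu
  type := Or.inl fun a ha ha0 => absurd ((Submodule.mem_bot F).1 ha) ha0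

/-- A decomposition into blocks. -/
structure Decomp (P : Set (V × Dual F V)) where
  /-- the number of blocks -/
  n : ℕ
  /-- the spaces -/
  L : Fin n → Submodule F V
  /-- the spaces of functionals -/
  U : Fin n → Submodule F (Dual F V)
  block : ∀ i, Block P (L i) (U i)
  orth : ∀ i j, i ≠ j → ∀ u ∈ U i, ∀ x ∈ L j, u x = 0
  cover : ∀ a φ, (a, φ) ∈ P → ∃ i, a ∈ L i ∧ φ ∈ U i

variable [FiniteDimensional F V] {P : Set (V × Dual F V)} {S : Sys P}

theorem Comp.killed_add (C : Comp S) {x : V} (h : ∀ u ∈ C.U, u x = 0) : x ∉ C.pts := fun hx => by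
  obtain ⟨y, hy, ⟨ψ, hψ, hψx⟩, -⟩ := C.exists_adj hx
  exact hψx (h ψ (C.axes_le_U hy hψ))

theorem Comp.block_lin (C : Comp S) (hr : 2 ≤ C.rank) : Block P (C.linSpace hr) C.U where
  spanL := by
    rintro x (rfl | hx)
    · exact zero_mem _
    · obtain ⟨φ, h⟩ := C.exists_axis hx
      exact Submodule.subset_span ⟨φ, C.axes_le_U hx (S.mem_axes_of_mem h), h⟩
  spanU := iSup₂_le fun x hx => by
    rintro φ (rfl | h)
    · exact zero_mem _
    · exact Submodule.subset_span ⟨x, Or.inr hx, h⟩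
  ndL _ hx h := C.linSpace_injective hr hx h
  ndU _ hu h := C.U_injective hr hu fun y hy => h y (Or.inr hy)
  type := Or.inl fun _ ha ha0 _ hφ hφ0 h => C.lin_full hr ha ha0 hφ hφ0 h

theorem Comp.block_symp (C : Comp S) (hr : C.rank = 1) : Block P (C.sympSpace hr) C.U := by
  obtain ⟨f, hf, hf0, hanti⟩ := C.exists_sympForm hr
  have hfU : ∀ x : C.sympSpace hr, f x ∈ C.U := by
    intro x
    rcases x.2 with h | h
    · rw [show x = 0 from Subtype.ext h, map_zero]; exact zero_mem _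
    · exact C.axes_le_U h (hf x)
  have hprop : ∀ x (hx : x ∈ C.pts), ∀ φ ∈ S.axes x, ∃ c : F, φ = c • f ⟨x, Or.inr hx⟩ :=
    fun x hx φ hφ => C.prop_axes hr hx (hf ⟨x, Or.inr hx⟩) hφ
      (hf0 _ fun e => C.ne_zero hx (congrArg Subtype.val e))
  have hrange : C.U ≤ LinearMap.range f := iSup₂_le fun x hx φ hφ => by
    obtain ⟨c, hc⟩ := hprop x hx φ hφ
    exact ⟨c • ⟨x, Or.inr hx⟩, by rw [map_smul, ← hc]⟩
  refine ⟨?_, ?_, ?_, ?_, Or.inr ⟨f, hfU, hf0, hanti, ?_, ?_⟩⟩
  · rintro x (rfl | hx)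
    · exact zero_mem _
    · obtain ⟨φ, h⟩ := C.exists_axis hx
      exact Submodule.subset_span ⟨φ, C.axes_le_U hx (S.mem_axes_of_mem h), h⟩
  · refine iSup₂_le fun x hx => ?_
    rintro φ (rfl | h)
    · exact zero_mem _
    · exact Submodule.subset_span ⟨x, Or.inr hx, h⟩
  · rintro x (rfl | hx) h
    · rfl
    · exact absurd hx (C.killed_add h)
  · intro u hu h
    obtain ⟨x, rfl⟩ := hrange hu
    rcases x.2 with hx | hx
    · rw [show x = 0 from Subtype.ext hx, map_zero]
    · exact C.eq_zero_of_killed hx (hf x) fun y hy => h y (Or.inr hy)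
  · intro x c hx hc
    refine S.mem_of_axes (Submodule.smul_mem _ c (hf x)) (smul_ne_zero hc (hf0 x hx))
  · intro a φ h ha
    exact hprop a (ha.resolve_left (S.wf h).1) φ (S.mem_axes_of_mem h)

theorem Comp.exists_block (C : Comp S) : ∃ L : Submodule F V, Block P L C.U ∧
    (∀ x, x ∈ L ↔ x = 0 ∨ x ∈ C.pts) := by
  by_cases hr : 2 ≤ C.rank
  · exact ⟨_, C.block_lin hr, fun _ => Iff.rfl⟩
  · have hr' : C.rank = 1 := by have := C.one_le_rank; omega
    exact ⟨_, C.block_symp hr', fun _ => Iff.rfl⟩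

theorem Comp.rest (C : Comp S) : Sys {x ∈ P | x.1 ∉ C.pts} where
  two := S.two
  wf _ _ h := S.wf h.1
  smulL a _ h c hc := ⟨S.smulL h.1 c hc, fun hm => h.2 (by
    have := C.smul_mem (c := c⁻¹) hm (inv_ne_zero hc)
    rwa [smul_smul, inv_mul_cancel₀ hc, one_smul] at this)⟩
  smulR _ _ h c hc := ⟨S.smulR h.1 c hc, h.2⟩
  addL _ _ _ h h' h0 := ⟨S.addL h.1 h'.1 h0, h.2⟩
  addR _ _ _ h h' h0 := ⟨S.addR h.1 h'.1 h0, C.killed_add fun u hu => by
    rw [map_add, C.U_kills h.1 h.2 hu, C.U_kills h'.1 h'.2 hu, add_zero]⟩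
  conj _ _ _ _ h h' := ⟨S.conj h.1 h'.1, C.killed_add fun u hu => by
    rw [map_add, map_smul, C.U_kills h.1 h.2 hu, C.U_kills h'.1 h'.2 hu, smul_zero, add_zero]⟩
  opp _ _ h := by
    obtain ⟨b, ψ, hb, h1, h2⟩ := S.opp h.1
    exact ⟨b, ψ, ⟨hb, fun hm => h1 (C.kills_pts h.1 h.2 hm)⟩, h1, h2⟩
  noRad a b φ ψ ha hb h1 h2 hli h := by
    refine S.noRad ha.1 hb.1 h1 h2 hli fun e η he => ?_
    by_cases hec : e ∈ C.pts
    · have hη := C.axes_le_U hec (S.mem_axes_of_mem he)
      refine ⟨?_, ?_⟩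
      · rw [map_add, C.U_kills ha.1 ha.2 hη, C.U_kills hb.1 hb.2 hη, add_zero]
      · rw [C.kills_pts ha.1 ha.2 hec, C.kills_pts hb.1 hb.2 hec]
    · exact h e η ⟨he, hec⟩

theorem Comp.lift_block (C : Comp S) {L : Submodule F V} {U : Submodule F (Dual F V)}
    (B : Block {x ∈ P | x.1 ∉ C.pts} L U) : Block P L U where
  spanL := B.spanL.trans (Submodule.span_mono fun _ ⟨φ, hφ, h⟩ => ⟨φ, hφ, h.1⟩)
  spanU := B.spanU.trans (Submodule.span_mono fun _ ⟨a, ha, h⟩ => ⟨a, ha, h.1⟩)
  ndL := B.ndL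
  ndU := B.ndU
  type := by
    rcases B.type with h | ⟨f, h1, h2, h3, h4, h5⟩
    · exact Or.inl fun a ha ha0 φ hφ hφ0 h0 => (h a ha ha0 φ hφ hφ0 h0).1
    · refine Or.inr ⟨f, h1, h2, h3, fun x c hx hc => (h4 x c hx hc).1, fun a φ ha hm => ?_⟩
      refine h5 a φ ⟨ha, C.killed_add fun u hu => ?_⟩ hm
      have : L ≤ LinearMap.ker u := B.spanL.trans (Submodule.span_le.2 fun z ⟨_, _, hz⟩ =>
        C.U_kills hz.1 hz.2 hu)
      exact this hm

theorem exists_decomp : ∀ (k : ℕ) (P : Set (V × Dual F V)), P.ncard = k → P.Finite → Sys P →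
    Nonempty (Decomp P) := by
  intro k
  induction k using Nat.strong_induction_on with
  | _ k ih =>
    intro P hk hfin S
    rcases P.eq_empty_or_nonempty with he | hne
    · exact ⟨⟨0, Fin.elim0, Fin.elim0, fun i => i.elim0, fun i => i.elim0,
        fun a φ h => by rw [he] at h; exact absurd h (Set.notMem_empty _)⟩⟩
    obtain ⟨C⟩ := exists_comp S hne
    set P' := {x ∈ P | x.1 ∉ C.pts} with hP'
    have hlt : P'.ncard < k := by
      rw [← hk]
      refine Set.ncard_lt_ncard ⟨fun x h => h.1, fun hsub => ?_⟩ hfin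
      obtain ⟨φ, hφ⟩ := C.base_axis
      exact (hsub hφ).2 C.base_mem
    obtain ⟨D⟩ := ih _ hlt P' rfl (hfin.subset fun x h => h.1) C.rest
    obtain ⟨L₀, hB, hL₀⟩ := C.exists_block
    refine ⟨{ n := D.n + 1, L := Fin.cons L₀ D.L, U := Fin.cons C.U D.U,
              block := ?_, orth := ?_, cover := ?_ }⟩
    · intro i
      induction i using Fin.cases with
      | zero => simpa using hB
      | succ i => simpa using C.lift_block (D.block i)
    · intro i j hij
      induction i using Fin.cases with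
      | zero =>
        induction j using Fin.cases with
        | zero => exact absurd rfl hij
        | succ j =>
          simp only [Fin.cons_zero, Fin.cons_succ]
          intro u hu x hx
          have : D.L j ≤ LinearMap.ker u := (D.block j).spanL.trans (Submodule.span_le.2
            fun z ⟨_, _, hz⟩ => C.U_kills hz.1 hz.2 hu)
          exact this hx
      | succ i =>
        induction j using Fin.cases with
        | zero =>
          simp only [Fin.cons_zero, Fin.cons_succ]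
          intro u hu x hx
          rcases (hL₀ x).1 hx with rfl | hxC
          · exact map_zero u
          · have : D.U i ≤ LinearMap.ker (Dual.eval F V x) := (D.block i).spanU.trans
              (Submodule.span_le.2 fun φ ⟨_, _, h⟩ => C.kills_pts h.1 h.2 hxC)
            exact this hu
        | succ j =>
          simp only [Fin.cons_succ]
          exact D.orth i j fun e => hij (by rw [e])
    · intro a φ h
      by_cases ha : a ∈ C.pts
      · exact ⟨0, by simpa using (hL₀ a).2 (Or.inr ha), by simpa using C.axes_le_U ha (S.mem_axes_of_mem h)⟩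
      · obtain ⟨i, h1, h2⟩ := D.cover a φ ⟨h, ha⟩
        exact ⟨i.succ, by simpa using h1, by simpa using h2⟩

end CfsgLib.McLaughlin
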