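import Cfsg.Agent.Lib.McLaughlin.System

/-!
# Components of rank at least two
-/

set_option autoImplicit false

namespace CfsgLib.McLaughlin

open Module

variable {F V : Type*} [Field F] [AddCommGroup V] [Module F V] [FiniteDimensional F V]
  {P : Set (V × Dual F V)} {S : Sys P}

namespace Comp

variable (C : Comp S)

/-- The joint functionals of two adjacent points. -/
def pairW (S : Sys P) (x y : V) : Submodule F (Dual F V) := S.axes x ⊔ S.axes y

theorem trio_le {a b c : V} (hb : b ∈ C.pts) (hab : S.Adj a b)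
    (hac : S.Adj a c) (hba : S.Adj b a) {e : Dual F V} (he : e ∈ S.axes a) (heb : e b = 0)
    (hec : e c ≠ 0) : S.axes b ≤ pairW S a c := by
  have heB : e ∈ S.axes b := S.comm_axes hab he heb
  have hcb : S.Adj c b := ⟨e, heB, hec⟩
  have hbc : S.Adj b c := by
    exact C.adj_symm (C.sat' hb heB hec (S.mem_of_axes hac.choose_spec.1
      fun h => hac.choose_spec.2 (by rw [h]; rfl))) hcb
  obtain ⟨ψ, hψ, hψa⟩ := hab
  set ψ' := ψ - (ψ c / e c) • e with hψ'
  have h1 : ψ' ∈ S.axes b := sub_mem hψ (Submodule.smul_mem _ _ heB)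
  have h2 : ψ' c = 0 := by simp [hψ', hec]
  have h3 : ψ' a = ψ a := by simp [hψ', S.apply_self he]
  have h4 : ψ' ∈ pairW S a c := Submodule.mem_sup_right (S.comm_axes hbc h1 h2)
  intro θ hθ
  have h5 : θ - (θ a / ψ' a) • ψ' ∈ S.axes a := by
    refine S.comm_axes hba (sub_mem hθ (Submodule.smul_mem _ _ h1)) ?_
    simp [h3, hψa]
  rw [← sub_add_cancel θ ((θ a / ψ' a) • ψ')]
  exact add_mem (Submodule.mem_sup_left h5) (Submodule.smul_mem _ _ h4)

theorem trio_eq {a b c : V} (ha : a ∈ C.pts) (hab : S.Adj a b) (hac : S.Adj a c)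
    {e : Dual F V} (he : e ∈ S.axes a) (heb : e b = 0) (hec : e c ≠ 0) :
    pairW S a b = pairW S a c := by
  have hba := C.adj_symm ha hab
  have hca := C.adj_symm ha hac
  have hb : b ∈ C.pts := Relation.ReflTransGen.tail ha hab
  have hc : c ∈ C.pts := Relation.ReflTransGen.tail ha hac
  obtain ⟨φ, hφ, hφb⟩ := hba
  have hφ' : φ - (φ c / e c) • e ∈ S.axes a := sub_mem hφ (Submodule.smul_mem _ _ he)
  have h1 := C.trio_le hb hab hac ⟨φ, hφ, hφb⟩ he heb hec
  have h2 := C.trio_le hc hac hab hca hφ' (by simp [hec]) (by simp [heb, hφb])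
  exact le_antisymm (sup_le le_sup_left h1) (sup_le le_sup_left h2)

theorem exists_kill (hr : 2 ≤ C.rank) {a : V} (ha : a ∈ C.pts) (b : V) :
    ∃ e ∈ S.axes a, e ≠ 0 ∧ e b = 0 := by
  by_contra h
  push Not at h
  set f : S.axes a →ₗ[F] F := (Dual.eval F V b).comp (S.axes a).subtype with hf
  have hinj : Function.Injective f := by
    rw [injective_iff_map_eq_zero]
    rintro ⟨e, he⟩ h0
    by_contra hne
    exact h e he (fun e' => hne (Subtype.ext e')) h0
  have h1 := LinearMap.finrank_le_finrank_of_injective hinj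
  rw [C.rank_eq ha, Module.finrank_self] at h1
  omega

theorem pair_const (hr : 2 ≤ C.rank) {a b c : V} (ha : a ∈ C.pts) (hab : S.Adj a b) (hac : S.Adj a c) :
    pairW S a b = pairW S a c := by
  obtain ⟨e, he, he0, heb⟩ := C.exists_kill hr ha b
  by_cases hec : e c = 0
  · obtain ⟨f, hf, hef⟩ := S.exists_nb he he0
    exact (C.trio_eq ha hab hf he heb hef).trans (C.trio_eq ha hac hf he hec hef).symm
  · exact C.trio_eq ha hab hac he heb hec

theorem pair_eq_of_mem (hr : 2 ≤ C.rank) {y₀ : V} (hy₀ : S.Adj C.base y₀) {x : V} (hx : x ∈ C.pts) :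
    ∀ y, S.Adj x y → pairW S x y = pairW S C.base y₀ := by
  induction hx with
  | refl => exact fun y hy => C.pair_const hr C.base_mem hy hy₀
  | @tail x z hx h ih =>
    intro y hy
    have hzx : S.Adj z x := C.adj_symm hx h
    rw [C.pair_const hr (Relation.ReflTransGen.tail hx h) hy hzx, pairW, sup_comm]
    exact ih z h

theorem U_eq_pair (hr : 2 ≤ C.rank) {x y : V} (hx : x ∈ C.pts) (hxy : S.Adj x y) :
    C.U = pairW S x y := by
  obtain ⟨y₀, -, hy₀, -⟩ := C.exists_adj C.base_mem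
  refine le_antisymm (iSup₂_le fun z hz => ?_)
    (sup_le (C.axes_le_U hx) (C.axes_le_U (Relation.ReflTransGen.tail hx hxy)))
  obtain ⟨w, -, hw, -⟩ := C.exists_adj hz
  rw [C.pair_eq_of_mem hr hy₀ hx y hxy, ← C.pair_eq_of_mem hr hy₀ hz w hw]
  exact le_sup_left

theorem mem_axes_iff_U (hr : 2 ≤ C.rank) {x : V} (hx : x ∈ C.pts) {θ : Dual F V} :
    θ ∈ S.axes x ↔ θ ∈ C.U ∧ θ x = 0 := by
  refine ⟨fun h => ⟨C.axes_le_U hx h, S.apply_self h⟩, fun ⟨h, h0⟩ => ?_⟩
  obtain ⟨y, hy, hxy, hyx⟩ := C.exists_adj hx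
  rw [C.U_eq_pair hr hx hxy, pairW, Submodule.mem_sup] at h
  obtain ⟨α, hα, β, hβ, rfl⟩ := h
  refine add_mem hα (S.comm_axes hyx hβ ?_)
  simpa [S.apply_self hα] using h0

theorem rank_lt_U (hr : 2 ≤ C.rank) : C.rank < finrank F C.U := by
  obtain ⟨y, hy, hxy, -⟩ := C.exists_adj C.base_mem
  refine Submodule.finrank_lt_finrank_of_lt (lt_of_le_of_ne (C.axes_le_U C.base_mem) fun e => ?_)
  obtain ⟨ψ, hψ, hψx⟩ := hxy
  exact hψx (S.apply_self (show ψ ∈ S.axes C.base by rw [e]; exact C.axes_le_U hy hψ))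

theorem U_injective (hr : 2 ≤ C.rank) {θ : Dual F V} (hθ : θ ∈ C.U) (h : ∀ y ∈ C.pts, θ y = 0) :
    θ = 0 :=
  C.eq_zero_of_killed C.base_mem ((C.mem_axes_iff_U hr C.base_mem).2 ⟨hθ, h _ C.base_mem⟩) h

theorem lin_add_mem (hr : 2 ≤ C.rank) {x y : V} (hx : x ∈ C.pts) (hy : y ∈ C.pts) (hxy : x + y ≠ 0) :
    x + y ∈ C.pts := by
  set g : C.U →ₗ[F] (Fin 2 → F) :=
    LinearMap.pi fun i => (Dual.eval F V (![x, y] i)).comp C.U.subtype with hg
  obtain ⟨φ, hφ, hφ0⟩ : ∃ φ : C.U, g φ = 0 ∧ φ ≠ 0 := by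
    by_contra h
    push Not at h
    have hinj : Function.Injective g := fun a b hab => sub_eq_zero.1 (h (a - b) ((LinearMap.map_sub g a b).trans (sub_eq_zero.2 hab)))
    have h1 := LinearMap.finrank_le_finrank_of_injective hinj
    rw [Module.finrank_fintype_fun_eq_card, Fintype.card_fin] at h1
    have := C.rank_lt_U hr
    omega
  have hφx : (φ : Dual F V) x = 0 := congrFun hφ 0
  have hφy : (φ : Dual F V) y = 0 := congrFun hφ 1
  have hne : (φ : Dual F V) ≠ 0 := fun e => hφ0 (Subtype.ext e)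
  have h1 := S.mem_of_axes ((C.mem_axes_iff_U hr hx).2 ⟨φ.2, hφx⟩) hne
  have h2 := S.mem_of_axes ((C.mem_axes_iff_U hr hy).2 ⟨φ.2, hφy⟩) hne
  have h3 := S.addR h1 h2 hxy
  by_contra hnot
  exact C.not_shared hx ((C.mem_axes_iff_U hr hx).2 ⟨φ.2, hφx⟩)
    (fun u hu => C.U_kills h3 hnot hu) h3

/-- The points together with zero, as a subspace. -/
def linSpace (hr : 2 ≤ C.rank) : Submodule F V where
  carrier := {x | x = 0 ∨ x ∈ C.pts}
  zero_mem' := Or.inl rfl
  add_mem' := by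
    rintro x y (rfl | hx) (rfl | hy)
    · exact Or.inl (add_zero _)
    · exact Or.inr (by rwa [zero_add])
    · exact Or.inr (by rwa [add_zero])
    · by_cases h : x + y = 0
      · exact Or.inl h
      · exact Or.inr (C.lin_add_mem hr hx hy h)
  smul_mem' := by
    rintro c x (rfl | hx)
    · exact Or.inl (smul_zero c)
    · by_cases hc : c = 0
      · exact Or.inl (by rw [hc, zero_smul])
      · exact Or.inr (C.smul_mem hx hc)

theorem linSpace_injective (hr : 2 ≤ C.rank) {x : V} (hx : x ∈ C.linSpace hr)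
    (h : ∀ u ∈ C.U, u x = 0) : x = 0 := by
  rcases hx with rfl | hx
  · rfl
  obtain ⟨y, hy, -, φ, hφ, hφy⟩ := C.exists_adj hx
  obtain ⟨z, hz, ⟨χ, hχ, hχx⟩, -⟩ := C.exists_adj hx
  exact absurd (h χ (C.axes_le_U hz hχ)) hχx

theorem lin_full (hr : 2 ≤ C.rank) {a : V} (ha : a ∈ C.linSpace hr) (ha0 : a ≠ 0) {φ : Dual F V}
    (hφ : φ ∈ C.U) (hφ0 : φ ≠ 0) (h : φ a = 0) : (a, φ) ∈ P :=
  S.mem_of_axes ((C.mem_axes_iff_U hr (ha.resolve_left ha0)).2 ⟨hφ, h⟩) hφ0

end Comp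

end CfsgLib.McLaughlin
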