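import Cfsg.Agent.Lib.McLaughlin.Blocks
import Cfsg.Agent.Lib.Involutions.BaerSuzuki
import Cfsg.Agent.Lib.PCore.Basic

/-!
# The transvection system of a linear group over a prime field
-/

set_option autoImplicit false

namespace CfsgLib.McLaughlin

open Module

variable {p : ℕ} [Fact p.Prime] {V : Type*} [AddCommGroup V] [Module (ZMod p) V]

local notation "𝔽" => ZMod p

/-- `g` is the transvection with centre `a` and functional `φ`. -/
def IsTrv (g : V ≃ₗ[𝔽] V) (a : V) (φ : Dual 𝔽 V) : Prop := ∀ x, g x = x + φ x • a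

/-- The pairs of the transvections of `H`. -/
def pairs (H : Subgroup (V ≃ₗ[𝔽] V)) : Set (V × Dual 𝔽 V) :=
  {x | x.1 ≠ 0 ∧ x.2 ≠ 0 ∧ x.2 x.1 = 0 ∧ ∃ g ∈ H, IsTrv g x.1 x.2}

theorem trv_pow {g : V ≃ₗ[𝔽] V} {a : V} {φ : Dual 𝔽 V} (h : IsTrv g a φ) (h0 : φ a = 0) (n : ℕ) :
    IsTrv (g ^ n) ((n : 𝔽) • a) φ := by
  induction n with
  | zero => intro x; simp
  | succ n ih =>
    intro x
    rw [pow_succ', LinearEquiv.mul_apply, ih, h, map_add, map_smul, map_smul, h0, smul_zero, smul_zero,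
      add_zero, Nat.cast_succ, add_smul, one_smul, smul_add]
    abel

theorem trv_conj {g t : V ≃ₗ[𝔽] V} {a : V} {φ : Dual 𝔽 V} (h : IsTrv t a φ) :
    IsTrv (g * t * g⁻¹) (g a) (φ.comp (g.symm : V →ₗ[𝔽] V)) := by
  intro x
  show g (t (g.symm x)) = _
  rw [h, map_add, map_smul, LinearEquiv.apply_symm_apply]
  rfl

theorem conj_mem {H : Subgroup (V ≃ₗ[𝔽] V)} {g : V ≃ₗ[𝔽] V} (hg : g ∈ H) {a : V} {φ : Dual 𝔽 V}
    (h : (a, φ) ∈ pairs H) : (g a, φ.comp (g.symm : V →ₗ[𝔽] V)) ∈ pairs H := by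
  obtain ⟨ha, hφ, h0, t, ht, htv⟩ := h
  refine ⟨fun e => ha (g.injective (by simpa using e)), fun e => hφ ?_, by simp [h0],
    g * t * g⁻¹, mul_mem (mul_mem hg ht) (inv_mem hg), trv_conj htv⟩
  refine LinearMap.ext fun x => ?_
  have := LinearMap.congr_fun e (g x)
  simpa using this

/-- The subgroup stabilising a series of two steps. -/
def seriesStab (A B : Submodule 𝔽 V) : Subgroup (V ≃ₗ[𝔽] V) where
  carrier := {g | (∀ x ∈ A, g x = x) ∧ (∀ x ∈ B, g x - x ∈ A) ∧ ∀ x, g x - x ∈ B}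
  one_mem' := ⟨fun _ _ => rfl, fun x _ => by simp, fun x => by simp⟩
  mul_mem' := by
    rintro g h ⟨g1, g2, g3⟩ ⟨h1, h2, h3⟩
    refine ⟨fun x hx => by rw [LinearEquiv.mul_apply, h1 x hx, g1 x hx], fun x hx => ?_, fun x => ?_⟩
    · rw [LinearEquiv.mul_apply, ← sub_add_sub_cancel (g (h x)) (g x) x, ← map_sub, g1 _ (h2 x hx)]
      exact add_mem (h2 x hx) (g2 x hx)
    · rw [LinearEquiv.mul_apply, ← sub_add_sub_cancel (g (h x)) (h x) x]
      exact add_mem (g3 _) (h3 x)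
  inv_mem' := by
    rintro g ⟨g1, g2, g3⟩
    have e : ∀ x, g⁻¹ x - x = -(g (g⁻¹ x) - g⁻¹ x) := fun x => by
      rw [show g (g⁻¹ x) = x from LinearEquiv.apply_symm_apply g x]; abel
    refine ⟨fun x hx => ?_, fun x hx => ?_, fun x => ?_⟩
    · conv_lhs => rw [← g1 x hx]
      exact LinearEquiv.symm_apply_apply g x
    · rw [e]
      refine neg_mem (g2 _ ?_)
      have h' : g⁻¹ x - x ∈ B := by rw [e]; exact neg_mem (g3 _)
      simpa using add_mem h' hx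
    · rw [e]; exact neg_mem (g3 _)

theorem pow_apply_series {A B : Submodule 𝔽 V} {g : V ≃ₗ[𝔽] V} (hg : g ∈ seriesStab A B) (x : V) (n : ℕ) :
    (g ^ n) x = x + (n : 𝔽) • (g x - x) + ((n.choose 2 : ℕ) : 𝔽) • (g (g x - x) - (g x - x)) := by
  obtain ⟨g1, g2, g3⟩ := hg
  induction n with
  | zero => simp
  | succ n ih =>
    have he := g1 _ (g2 _ (g3 x))
    rw [pow_succ', LinearEquiv.mul_apply, ih, map_add, map_add, map_smul, map_smul, he,
      Nat.choose_succ_succ' n 1, Nat.choose_one_right, Nat.cast_add, Nat.cast_succ]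
    module

theorem seriesStab_isPGroup (hp : p ≠ 2) (A B : Submodule 𝔽 V) : IsPGroup p (seriesStab A B) := by
  intro ⟨g, hg⟩
  refine ⟨1, Subtype.ext (LinearEquiv.ext fun x => ?_)⟩
  rw [pow_one, SubmonoidClass.coe_pow, pow_apply_series hg]
  have hlt : 2 < p := lt_of_le_of_ne (Fact.out : p.Prime).two_le (Ne.symm hp)
  have : (p : ℕ) ∣ p.choose 2 := Nat.Prime.dvd_choose_self Fact.out (by norm_num) hlt
  rw [ZMod.natCast_self, (ZMod.natCast_eq_zero_iff _ _).2 this]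
  simp

theorem mem_seriesStab_of_trv {t : V ≃ₗ[𝔽] V} {a : V} {φ : Dual 𝔽 V} (h : IsTrv t a φ)
    {A B : Submodule 𝔽 V} (haB : a ∈ B) (hA : ∀ x ∈ A, φ x = 0) (hB : ∀ x ∈ B, φ x • a ∈ A) :
    t ∈ seriesStab A B :=
  ⟨fun x hx => by rw [h, hA x hx, zero_smul, add_zero], fun x hx => by rw [h, add_sub_cancel_left]; exact hB x hx,
    fun x => by rw [h, add_sub_cancel_left]; exact Submodule.smul_mem _ _ haB⟩

theorem pair_pgroup (hp : p ≠ 2) {s t : V ≃ₗ[𝔽] V} {a b : V} {φ ψ : Dual 𝔽 V} (hs : IsTrv s a φ)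
    (ht : IsTrv t b ψ) (ha : φ a = 0) (hb : ψ b = 0) (hab : φ b = 0) :
    IsPGroup p (Subgroup.closure ({s, t} : Set (V ≃ₗ[𝔽] V))) := by
  refine (seriesStab_isPGroup hp (Submodule.span 𝔽 {b}) (Submodule.span 𝔽 {a, b})).to_le ?_
  rw [Subgroup.closure_le]
  rintro g (rfl | rfl)
  · refine mem_seriesStab_of_trv hs (Submodule.subset_span (by simp)) (fun x hx => ?_) fun x hx => ?_
    · obtain ⟨c, rfl⟩ := Submodule.mem_span_singleton.1 hx; simp [hab]
    · have : Submodule.span 𝔽 {a, b} ≤ LinearMap.ker φ := Submodule.span_le.2 (by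
        rintro z (rfl | rfl) <;> assumption)
      rw [show φ x = 0 from this hx, zero_smul]; exact zero_mem _
  · refine mem_seriesStab_of_trv ht (Submodule.subset_span (by simp)) (fun x hx => ?_) fun x hx => ?_
    · obtain ⟨c, rfl⟩ := Submodule.mem_span_singleton.1 hx; simp [hb]
    · exact Submodule.smul_mem _ _ (Submodule.subset_span rfl)

variable [Finite V] {H : Subgroup (V ≃ₗ[ZMod p] V)}

theorem pairs_opp (hp : p ≠ 2) (hOp : Cfsg.pCore p ↥H = ⊥) {a : V} {φ : Dual 𝔽 V}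
    (h : (a, φ) ∈ pairs H) : ∃ b ψ, (b, ψ) ∈ pairs H ∧ φ b ≠ 0 ∧ ψ a ≠ 0 := by
  classical
  by_contra hno
  push Not at hno
  have : Finite (V ≃ₗ[𝔽] V) := Finite.of_injective _ DFunLike.coe_injective
  obtain ⟨ha, hφ, h0, t, ht, htv⟩ := h
  let t' : H := ⟨t, ht⟩
  have hbad : ∀ g : H, ∀ b ψ, (b, ψ) ∈ pairs H →
      φ ((g : V ≃ₗ[𝔽] V).symm b) = 0 ∨ ψ ((g : V ≃ₗ[𝔽] V) a) = 0 := by
    intro g b ψ hb
    by_cases h1 : φ ((g : V ≃ₗ[𝔽] V).symm b) = 0
    · exact Or.inl h1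
    · right
      have := hno _ _ (conj_mem (inv_mem g.2) hb) h1
      exact this
  have hgrp : IsPGroup p (Subgroup.closure {d : H | IsConj t' d}) := by
    refine CfsgLib.Involutions.isPGroup_closure_of_pairwise (fun g d hd => ?_) fun d₁ h₁ d₂ h₂ => ?_
    · exact hd.trans (isConj_iff.2 ⟨g, rfl⟩)
    obtain ⟨g₁, rfl⟩ := isConj_iff.1 h₁
    obtain ⟨g₂, rfl⟩ := isConj_iff.1 h₂
    have T : ∀ g : H, IsTrv ((g * t' * g⁻¹ : H) : V ≃ₗ[𝔽] V) ((g : V ≃ₗ[𝔽] V) a)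
        (φ.comp ((g : V ≃ₗ[𝔽] V).symm : V →ₗ[𝔽] V)) := fun g => trv_conj htv
    have Z : ∀ g : H, (φ.comp ((g : V ≃ₗ[𝔽] V).symm : V →ₗ[𝔽] V)) ((g : V ≃ₗ[𝔽] V) a) = 0 := by
      intro g; simp [h0]
    refine IsPGroup.of_injective ?_ ((H.subtype.comp (Subgroup.closure _).subtype).codRestrict
      (Subgroup.closure {((g₁ * t' * g₁⁻¹ : H) : V ≃ₗ[𝔽] V), ((g₂ * t' * g₂⁻¹ : H) : V ≃ₗ[𝔽] V)}) ?_) ?_
    · rcases hbad g₁ _ _ (conj_mem g₂.2 ⟨ha, hφ, h0, t, ht, htv⟩) with h1 | h1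
      · exact pair_pgroup hp (T g₁) (T g₂) (Z g₁) (Z g₂) h1
      · rw [Set.pair_comm]
        exact pair_pgroup hp (T g₂) (T g₁) (Z g₂) (Z g₁) h1
    · rintro ⟨x, hx⟩
      have := Subgroup.mem_map_of_mem H.subtype hx
      rwa [MonoidHom.map_closure, Set.image_pair] at this
    · intro x y e
      have h' := congrArg Subtype.val e
      exact Subtype.ext (Subtype.ext h')
  have hnorm : (Subgroup.closure {d : H | IsConj t' d}).Normal := by
    refine ⟨fun x hx g => ?_⟩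
    have := Subgroup.mem_map_of_mem (MulAut.conj g).toMonoidHom hx
    rw [MonoidHom.map_closure] at this
    refine Subgroup.closure_mono ?_ this
    rintro _ ⟨d, hd, rfl⟩
    exact hd.trans (isConj_iff.2 ⟨g, rfl⟩)
  have hle := CfsgLib.PCore.le_pCore hnorm hgrp
  rw [hOp] at hle
  have h1 : t' = 1 := Subgroup.mem_bot.1 (hle (Subgroup.subset_closure (IsConj.refl t')))
  obtain ⟨x, hx⟩ : ∃ x, φ x ≠ 0 := by
    by_contra h'; push Not at h'; exact hφ (LinearMap.ext h')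
  have h2 := htv x
  rw [show t = 1 from congrArg Subtype.val h1] at h2
  exact hx ((smul_eq_zero.1 (by simpa using h2)).resolve_right ha)

theorem pairs_noRad (hp : p ≠ 2) (hOp : Cfsg.pCore p ↥H = ⊥) {a b : V} {φ ψ : Dual 𝔽 V}
    (ha : (a, φ) ∈ pairs H) (hb : (b, ψ) ∈ pairs H) (h2 : ψ a = 0)
    (hli : LinearIndependent 𝔽 ![a, b])
    (h : ∀ e η, (e, η) ∈ pairs H → η (a + b) = 0 ∧ φ e = ψ e) : False := by
  classical
  have : Finite (V ≃ₗ[𝔽] V) := Finite.of_injective _ DFunLike.coe_injective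
  set B : Submodule 𝔽 V := Submodule.span 𝔽 {e | ∃ η, (e, η) ∈ pairs H} with hB
  let A : Submodule 𝔽 V :=
    { carrier := {x | x ∈ B ∧ ∀ e η, (e, η) ∈ pairs H → η x = 0}
      zero_mem' := ⟨zero_mem _, fun _ _ _ => map_zero _⟩
      add_mem' := fun {x y} hx hy => ⟨add_mem hx.1 hy.1, fun e η he => by
        rw [map_add, hx.2 e η he, hy.2 e η he, add_zero]⟩
      smul_mem' := fun c x hx => ⟨B.smul_mem c hx.1, fun e η he => by
        rw [map_smul, hx.2 e η he, smul_zero]⟩ }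
  have hinvB : ∀ g ∈ H, ∀ x ∈ B, g x ∈ B := by
    intro g hg x hx
    have : B ≤ B.comap (g : V →ₗ[𝔽] V) := Submodule.span_le.2 fun e ⟨η, he⟩ =>
      Submodule.subset_span ⟨_, conj_mem hg he⟩
    exact this hx
  have hinvA : ∀ g ∈ H, ∀ x ∈ A, g x ∈ A := fun g hg x hx => ⟨hinvB g hg x hx.1, fun e η he =>
    hx.2 _ _ (by simpa using conj_mem (inv_mem hg) he)⟩
  set N : Subgroup H := (seriesStab A B).subgroupOf H with hN
  have hnorm : N.Normal := by
    refine ⟨fun n hn g => ?_⟩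
    obtain ⟨n1, n2, n3⟩ := hn
    have hi := inv_mem g.2
    have e : ∀ x, (H.subtype (g * n * g⁻¹)) x - x =
        (g : V ≃ₗ[𝔽] V) ((H.subtype n) ((g : V ≃ₗ[𝔽] V)⁻¹ x) - (g : V ≃ₗ[𝔽] V)⁻¹ x) := fun x => by
      rw [map_sub]
      congr 1
      exact (LinearEquiv.apply_symm_apply (g : V ≃ₗ[𝔽] V) x).symm
    refine ⟨fun x hx => sub_eq_zero.1 ?_, fun x hx => ?_, fun x => ?_⟩
    · rw [e, n1 _ (hinvA _ hi x hx), sub_self, map_zero]
    · rw [e]; exact hinvA _ g.2 _ (n2 _ (hinvB _ hi x hx))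
    · rw [e]; exact hinvB _ g.2 _ (n3 _)
  have hpN : IsPGroup p N := (seriesStab_isPGroup hp A B).comap_of_injective H.subtype H.subtype_injective
  have hle := CfsgLib.PCore.le_pCore hnorm hpN
  rw [hOp] at hle
  obtain ⟨ha0, hφ, -, s, hs, hsv⟩ := id ha
  obtain ⟨-, -, -, t, ht, htv⟩ := id hb
  have happ : ∀ x, (t * s) x - x = φ x • a + ψ x • b := by
    intro x
    rw [LinearEquiv.mul_apply, htv, hsv, map_add, map_smul, h2, smul_zero, add_zero]
    abel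
  have haB : a ∈ B := Submodule.subset_span ⟨φ, ha⟩
  have hbB : b ∈ B := Submodule.subset_span ⟨ψ, hb⟩
  have hab : a + b ∈ A := ⟨add_mem haB hbB, fun e η he => (h e η he).1⟩
  have heq : ∀ x ∈ B, φ x = ψ x := fun x hx =>
    LinearMap.eqOn_span (fun e he => (h e _ he.choose_spec).2) hx
  have hmem : (⟨t * s, mul_mem ht hs⟩ : H) ∈ N := by
    refine ⟨fun x hx => sub_eq_zero.1 ?_, fun x hx => ?_, fun x => ?_⟩
    · show (t * s) x - x = 0
      rw [happ, hx.2 a φ ha, hx.2 b ψ hb, zero_smul, zero_smul, add_zero]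
    · show (t * s) x - x ∈ A
      rw [happ, ← heq x hx, ← smul_add]
      exact A.smul_mem _ hab
    · show (t * s) x - x ∈ B
      rw [happ]
      exact add_mem (B.smul_mem _ haB) (B.smul_mem _ hbB)
  have h1 : t * s = 1 := congrArg Subtype.val (Subgroup.mem_bot.1 (hle hmem))
  refine hφ (LinearMap.ext fun x => ?_)
  have hx := happ x
  rw [h1] at hx
  simp only [LinearEquiv.coe_one, id_eq, sub_self] at hx
  have := (LinearIndependent.pair_iff.1 hli (φ x) (ψ x) hx.symm).1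
  simpa using this

theorem natCast_smul_mem {g : V ≃ₗ[𝔽] V} (hg : g ∈ H) {a : V} {φ : Dual 𝔽 V} (h : IsTrv g a φ)
    (h0 : φ a = 0) (c : 𝔽) : ∃ g' ∈ H, IsTrv g' (c • a) φ :=
  ⟨g ^ c.val, pow_mem hg _, by simpa using trv_pow h h0 c.val⟩

theorem pairs_sys (hp : p ≠ 2) (hOp : Cfsg.pCore p ↥H = ⊥) : Sys (pairs H) where
  two := by
    intro h
    have h2 : ((2 : ℕ) : 𝔽) = 0 := by simpa using h
    rw [ZMod.natCast_eq_zero_iff] at h2
    exact hp ((Nat.prime_dvd_prime_iff_eq Fact.out Nat.prime_two).1 h2)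
  wf _ _ h := ⟨h.1, h.2.1, h.2.2.1⟩
  smulL a φ h c hc := by
    obtain ⟨ha, hφ, h0, t, ht, htv⟩ := h
    exact ⟨smul_ne_zero hc ha, hφ, by simp [h0], natCast_smul_mem ht htv h0 c⟩
  smulR a φ h c hc := by
    obtain ⟨ha, hφ, h0, t, ht, htv⟩ := h
    obtain ⟨g, hg, hgv⟩ := natCast_smul_mem ht htv h0 c
    exact ⟨ha, smul_ne_zero hc hφ, by simp [h0], g, hg, fun x => by
      rw [hgv, smul_smul, LinearMap.smul_apply, smul_eq_mul, mul_comm]⟩
  addL a φ ψ h h' hne := by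
    obtain ⟨ha, hφ, h0, t, ht, htv⟩ := h
    obtain ⟨-, -, h0', s, hs, hsv⟩ := h'
    refine ⟨ha, hne, by simp [h0, h0'], t * s, mul_mem ht hs, fun x => ?_⟩
    simp only [] at h0 h0' htv hsv ⊢
    rw [LinearEquiv.mul_apply, htv, hsv, map_add, map_smul, h0, smul_zero, add_zero, LinearMap.add_apply, add_smul]
    abel
  addR a b φ h h' hne := by
    obtain ⟨-, hφ, h0, t, ht, htv⟩ := h
    obtain ⟨-, -, h0', s, hs, hsv⟩ := h'
    refine ⟨hne, hφ, by simp [h0, h0'], t * s, mul_mem ht hs, fun x => ?_⟩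
    simp only [] at h0 h0' htv hsv ⊢
    rw [LinearEquiv.mul_apply, htv, hsv, map_add, map_smul, h0', smul_zero, add_zero, smul_add]
    abel
  conj a b φ ψ h h' := by
    obtain ⟨ha, hφ, h0, t, ht, htv⟩ := h
    have := conj_mem ht h'
    rw [htv b] at this
    have e : ψ.comp (t.symm : V →ₗ[𝔽] V) = ψ - ψ a • φ := by
      refine LinearMap.ext fun x => ?_
      obtain ⟨y, rfl⟩ := t.surjective x
      show ψ (t.symm (t y)) = ψ (t y) - ψ a * φ (t y)
      simp only [] at htv h0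
      rw [LinearEquiv.symm_apply_apply, htv y]
      simp [h0, mul_comm]
    rwa [e] at this
  opp _ _ h := pairs_opp hp hOp h
  noRad _ _ _ _ ha hb _ h2 hli h := pairs_noRad hp hOp ha hb h2 hli h

end CfsgLib.McLaughlin
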