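import Mathlib
import Cfsg.Agent.Classical.SLGen
import Cfsg.Agent.Lib.Sp.Witt

/-!
# Groups containing all transvections of a space, or all symplectic ones
-/

set_option autoImplicit false

namespace CfsgLib.McLaughlin

open Module

variable {F M : Type*} [Field F] [AddCommGroup M] [Module F M] [FiniteDimensional F M]

theorem mem_of_det_one (R : Subgroup (M ≃ₗ[F] M))
    (hR : ∀ (g : M ≃ₗ[F] M) (a : M) (f : Dual F M), f a = 0 → (∀ x, g x = x + f x • a) → g ∈ R)
    {g : M ≃ₗ[F] M} (hg : LinearMap.det (g : M →ₗ[F] M) = 1) : g ∈ R := by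
  classical
  set b := Module.finBasis F M with hb
  let Φ : Matrix.SpecialLinearGroup (Fin (finrank F M)) F →* (M ≃ₗ[F] M) :=
    MonoidHom.mk' (fun A => (b.equivFun.trans (Matrix.SpecialLinearGroup.toLin' A)).trans b.equivFun.symm)
      fun A B => LinearEquiv.ext fun x => by
        simp only [LinearEquiv.mul_apply, LinearEquiv.trans_apply, LinearEquiv.apply_symm_apply, map_mul]
  have htop : R.comap Φ = ⊤ := by
    refine Cfsg.Agent.Classical.sl_subgroup_eq_top_of_transvection_mem _ fun i j hij c => ?_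
    refine hR _ (b i) (c • b.coord j) (by simp [hij]) fun x => ?_
    show b.equivFun.symm (Matrix.SpecialLinearGroup.toLin' _ (b.equivFun x)) = _
    apply b.equivFun.injective
    rw [LinearEquiv.apply_symm_apply, Matrix.SpecialLinearGroup.toLin'_apply, Matrix.toLin'_apply,
      Matrix.SpecialLinearGroup.transvection_coe, Matrix.add_mulVec, Matrix.one_mulVec, map_add, map_smul]
    congr 1
    funext k
    rw [Matrix.mulVec, dotProduct, Pi.smul_apply, Basis.equivFun_apply, Basis.equivFun_apply,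
      LinearMap.smul_apply, Basis.coord_apply, Basis.repr_self]
    simp only [Finsupp.single_apply, Matrix.single_apply, ite_mul, zero_mul, smul_eq_mul]
    by_cases hk : i = k <;> simp [hk]
  have hdet : (LinearMap.toMatrix b b (g : M →ₗ[F] M)).det = 1 := by
    rw [LinearMap.det_toMatrix, hg]
  have hmem : (⟨_, hdet⟩ : Matrix.SpecialLinearGroup (Fin (finrank F M)) F) ∈ R.comap Φ := by
    rw [htop]; trivial
  suffices he : g = Φ ⟨_, hdet⟩ by rw [he]; exact hmem
  refine LinearEquiv.ext fun x => ?_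
  show g x = b.equivFun.symm
    ((LinearMap.toMatrix b b (g : M →ₗ[F] M)).toLin' (b.equivFun x))
  rw [Matrix.toLin'_apply, eq_comm, LinearEquiv.symm_apply_eq]
  exact LinearMap.toMatrix_mulVec_repr b b (g : M →ₗ[F] M) x

theorem isom_le (B : LinearMap.BilinForm F M) (hA : B.IsAlt) (hB : B.SeparatingLeft)
    (R : Subgroup (M ≃ₗ[F] M))
    (hR : ∀ (v : M) (c : F), v ≠ 0 → c ≠ 0 → CfsgLib.Sp.tvec B hA v c ∈ R) :
    CfsgLib.Sp.isom B ≤ R := by
  rw [CfsgLib.Sp.isom_eq_transvGroup hA hB, CfsgLib.Sp.transvGroup, Subgroup.closure_le]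
  rintro _ ⟨v, c, rfl⟩
  by_cases hv : v = 0
  · subst hv
    rw [show CfsgLib.Sp.tvec B hA 0 c = 1 from LinearEquiv.ext fun x => by simp]
    exact one_mem R
  by_cases hc : c = 0
  · subst hc; rw [CfsgLib.Sp.tvec_zero]; exact one_mem R
  exact hR v c hv hc

end CfsgLib.McLaughlin
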