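import Cfsg.Agent.Lib.McLaughlin.FromGroup
import Cfsg.Agent.Lib.McLaughlin.Generation

/-!
# Groups generated by transvections over a prime field of odd order, with trivial p-core
-/

set_option autoImplicit false

namespace CfsgLib.McLaughlin

open Module

variable {p : ℕ} [Fact p.Prime] {V : Type*} [AddCommGroup V] [Module (ZMod p) V] [Finite V]

theorem exists_trv {t : V ≃ₗ[ZMod p] V} (ho : orderOf t = p)
    (hk : finrank (ZMod p) ↥(LinearMap.ker ((t : V →ₗ[ZMod p] V) - LinearMap.id)) + 1 = finrank (ZMod p) V) :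
    ∃ a φ, a ≠ 0 ∧ φ ≠ 0 ∧ φ a = 0 ∧ IsTrv t a φ := by
  set D := (t : V →ₗ[ZMod p] V) - LinearMap.id with hD
  obtain ⟨v, hv⟩ : ∃ v, v ∉ LinearMap.ker D := by
    by_contra h
    push Not at h
    rw [(Submodule.eq_top_iff' (p := LinearMap.ker D)).2 h, finrank_top] at hk
    omega
  obtain ⟨f, hfv, hf⟩ := Submodule.exists_dual_map_eq_bot_of_notMem hv inferInstance
  have hle : LinearMap.ker D ≤ LinearMap.ker f := fun x hx => by
    have : f x ∈ (LinearMap.ker D).map f := Submodule.mem_map_of_mem hx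
    rwa [hf, Submodule.mem_bot] at this
  have hlt : LinearMap.ker f < ⊤ := lt_top_iff_ne_top.2 fun e => hfv (by
    have : v ∈ LinearMap.ker f := by rw [e]; trivial
    exact this)
  have h1 := Submodule.finrank_lt hlt.ne
  have heq : LinearMap.ker D = LinearMap.ker f := Submodule.eq_of_le_of_finrank_le hle (by omega)
  set a := (f v)⁻¹ • D v with ha
  have hDx : ∀ x, D x = f x • a := by
    intro x
    have : x - (f x * (f v)⁻¹) • v ∈ LinearMap.ker D := by
      rw [heq, LinearMap.mem_ker, map_sub, map_smul, smul_eq_mul, mul_assoc, inv_mul_cancel₀ hfv,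
        mul_one, sub_self]
    rw [LinearMap.mem_ker, map_sub, map_smul, sub_eq_zero] at this
    rw [this, ha, smul_smul]
  have htv : IsTrv t a f := fun x => by
    rw [← hDx, hD, LinearMap.sub_apply, LinearEquiv.coe_coe, LinearMap.id_apply]; abel
  have ha0 : a ≠ 0 := fun e => hv (by rw [LinearMap.mem_ker, hDx, e, smul_zero])
  refine ⟨a, f, ha0, fun e => hfv (by rw [e]; rfl), ?_, htv⟩
  have hn : ∀ n : ℕ, (t ^ n) a = (1 + f a) ^ n • a := by
    intro n
    induction n with
    | zero => simp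
    | succ n ih =>
      rw [pow_succ', LinearEquiv.mul_apply, ih, map_smul, htv a, pow_succ, mul_smul, add_smul, one_smul]
  have h := hn p
  have ht1 : t ^ p = 1 := orderOf_dvd_iff_pow_eq_one.1 ho.dvd
  rw [ht1, LinearEquiv.coe_one, id_eq, ZMod.pow_card] at h
  have h2 : f a • a = 0 := by
    have := h.symm
    rwa [add_smul, one_smul, add_eq_left] at this
  exact (smul_eq_zero.1 h2).resolve_right ha0

variable {H : Subgroup (V ≃ₗ[ZMod p] V)}

/-- The transvections of the block. -/
def blockSet (H : Subgroup (V ≃ₗ[ZMod p] V)) (L : Submodule (ZMod p) V) : Set (V ≃ₗ[ZMod p] V) :=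
  {g | ∃ a φ, (a, φ) ∈ pairs H ∧ a ∈ L ∧ g ∈ H ∧ IsTrv g a φ}

/-- Preserving a subspace, as a subgroup. -/
def keepSub (W : Submodule (ZMod p) V) : Subgroup (V ≃ₗ[ZMod p] V) where
  carrier := {g | ∀ x, g x ∈ W ↔ x ∈ W}
  one_mem' := fun _ => Iff.rfl
  mul_mem' := fun {g h} hg hh x => (hg (h x)).trans (hh x)
  inv_mem' := fun {g} hg x => by
    rw [← hg, show g (g⁻¹ x) = x from LinearEquiv.apply_symm_apply g x]

/-- Fixing a subspace pointwise, as a subgroup. -/
def fixSub (W : Submodule (ZMod p) V) : Subgroup (V ≃ₗ[ZMod p] V) where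
  carrier := {g | ∀ x ∈ W, g x = x}
  one_mem' := fun _ _ => rfl
  mul_mem' := fun {g h} hg hh x hx => by rw [LinearEquiv.mul_apply, hh x hx, hg x hx]
  inv_mem' := fun {g} hg x hx => by
    conv_lhs => rw [← hg x hx]
    exact LinearEquiv.symm_apply_apply g x

theorem keepSub_of_trv {g : V ≃ₗ[ZMod p] V} {a : V} {φ : Dual (ZMod p) V} (h : IsTrv g a φ)
    {W : Submodule (ZMod p) V} (hW : a ∈ W ∨ ∀ x ∈ W, φ x = 0) (h0 : φ a = 0) : g ∈ keepSub W := by
  intro x
  rcases hW with ha | hk
  · rw [h]; exact W.add_mem_iff_left (W.smul_mem _ ha)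
  · refine ⟨fun hx => ?_, fun hx => by rwa [h, hk x hx, zero_smul, add_zero]⟩
    have e : φ (g x) = φ x := by rw [h, map_add, map_smul, h0, smul_zero, add_zero]
    have : φ x = 0 := e ▸ hk _ hx
    rwa [h, this, zero_smul, add_zero] at hx

theorem exists_blocks (hp : p ≠ 2) (hOp : Cfsg.pCore p ↥H = ⊥) :
    ∃ D : Decomp (pairs H), 1 ≤ D.n := by
  have : Finite (Dual (ZMod p) V) := Finite.of_injective _ DFunLike.coe_injective
  obtain ⟨D⟩ := exists_decomp _ (pairs H) rfl (Set.toFinite _) (pairs_sys hp hOp)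
  refine ⟨{ n := D.n + 1, L := Fin.cons ⊥ D.L, U := Fin.cons ⊥ D.U,
            block := ?_, orth := ?_, cover := ?_ }, by simp⟩
  · intro i
    induction i using Fin.cases with
    | zero => simpa using block_bot _
    | succ i => simpa using D.block i
  · intro i j hij u hu x hx
    induction i using Fin.cases with
    | zero =>
      simp only [Fin.cons_zero, Submodule.mem_bot] at hu
      simp [hu]
    | succ i =>
      induction j using Fin.cases with
      | zero =>
        simp only [Fin.cons_zero, Submodule.mem_bot] at hx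
        simp [hx]
      | succ j =>
        simp only [Fin.cons_succ] at hu hx
        exact D.orth i j (fun e => hij (by rw [e])) u hu x hx
  · intro a φ h
    obtain ⟨i, h1, h2⟩ := D.cover a φ h
    exact ⟨i.succ, by simpa using h1, by simpa using h2⟩

theorem blockSet_side (D : Decomp (pairs H)) {j : Fin D.n} {a : V} {φ : Dual (ZMod p) V}
    (h : (a, φ) ∈ pairs H) (ha : a ∈ D.L j) : φ ∈ D.U j := by
  obtain ⟨i, h1, h2⟩ := D.cover a φ h
  rcases eq_or_ne j i with rfl | hne
  · exact h2
  · exact absurd ((D.block j).ndL a ha fun u hu => D.orth j i hne u hu a h1) h.1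

/-- The summands: the common fixed space and the blocks. -/
noncomputable def summand (D : Decomp (pairs H)) : Fin (D.n + 1) → Submodule (ZMod p) V :=
  Fin.cons (⨅ i, ⨅ u ∈ D.U i, LinearMap.ker u) D.L

theorem summand_killed (D : Decomp (pairs H)) {j : Fin D.n} {i : Fin (D.n + 1)} (hi : i ≠ j.succ)
    {u : Dual (ZMod p) V} (hu : u ∈ D.U j) {x : V} (hx : x ∈ summand D i) : u x = 0 := by
  induction i using Fin.cases with
  | zero =>
    simp only [summand, Fin.cons_zero, Submodule.mem_iInf, LinearMap.mem_ker] at hx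
    exact hx j u hu
  | succ i =>
    simp only [summand, Fin.cons_succ] at hx
    exact D.orth j i (fun e => hi (by rw [e])) u hu x hx

theorem restrict_surjective (D : Decomp (pairs H)) (j : Fin D.n) (g : Dual (ZMod p) (D.L j)) :
    ∃ u ∈ D.U j, ∀ x : D.L j, u x = g x := by
  set r : D.U j →ₗ[ZMod p] Dual (ZMod p) (D.L j) :=
    (LinearMap.lcomp (ZMod p) (ZMod p) (D.L j).subtype).comp (D.U j).subtype with hr
  set r' : D.L j →ₗ[ZMod p] Dual (ZMod p) (D.U j) := r.flip with hr'
  have hinj : Function.Injective r := by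
    intro u v huv
    refine sub_eq_zero.1 (Subtype.ext ((D.block j).ndU _ (u - v).2 fun x hx => ?_))
    have := LinearMap.congr_fun huv ⟨x, hx⟩
    simpa [hr, sub_eq_zero] using this
  have hinj' : Function.Injective r' := by
    intro x y hxy
    refine sub_eq_zero.1 (Subtype.ext ((D.block j).ndL _ (x - y).2 fun u hu => ?_))
    have := LinearMap.congr_fun hxy ⟨u, hu⟩
    simpa [hr', hr, sub_eq_zero] using this
  have h1 := LinearMap.finrank_le_finrank_of_injective hinj
  have h2 := LinearMap.finrank_le_finrank_of_injective hinj'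
  rw [Subspace.dual_finrank_eq] at h1 h2
  obtain ⟨u, hu⟩ := (LinearMap.injective_iff_surjective_of_finrank_eq_finrank
    (show finrank (ZMod p) (D.U j) = finrank (ZMod p) (Dual (ZMod p) (D.L j)) by
      rw [Subspace.dual_finrank_eq]; omega)).1 hinj g
  exact ⟨u, u.2, fun x => LinearMap.congr_fun hu x⟩

theorem summand_internal (D : Decomp (pairs H)) : DirectSum.IsInternal (summand D) := by
  classical
  rw [DirectSum.isInternal_submodule_iff_iSupIndep_and_iSup_eq_top]
  constructor
  · intro i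
    rw [Submodule.disjoint_def]
    intro x hx hx'
    have hkill : ∀ j : Fin D.n, i = j.succ → x = 0 := by
      intro j hj
      subst hj
      refine (D.block j).ndL x (by simpa [summand] using hx) fun u hu => ?_
      have : (⨆ k, ⨆ (_ : k ≠ j.succ), summand D k) ≤ LinearMap.ker u :=
        iSup₂_le fun k hk y hy => summand_killed D hk hu hy
      exact this hx'
    induction i using Fin.cases with
    | succ j => exact hkill j rfl
    | zero =>
      have hle : (⨆ k, ⨆ (_ : k ≠ (0 : Fin (D.n + 1))), summand D k) ≤ ⨆ j : Fin D.n, D.L j := by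
        refine iSup₂_le fun k hk => ?_
        induction k using Fin.cases with
        | zero => exact absurd rfl hk
        | succ j => exact le_trans (le_of_eq (by simp [summand])) (le_iSup _ j)
      obtain ⟨f, hf, rfl⟩ := (Submodule.mem_iSup_iff_exists_finsupp _ _).1 (hle hx')
      refine Finset.sum_eq_zero fun j _ => (D.block j).ndL _ (hf j) fun u hu => ?_
      have hux : u (f.sum fun _ y => y) = 0 := summand_killed D (Ne.symm (Fin.succ_ne_zero j)) hu hx
      rw [Finsupp.sum, map_sum, Finset.sum_eq_single j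
        (fun k _ hk => D.orth j k (Ne.symm hk) u hu _ (hf k))
        (fun hj => by rw [Finsupp.notMem_support_iff.1 hj, map_zero])] at hux
      exact hux
  · rw [Submodule.eq_top_iff']
    intro x
    have hx : ∀ j, ∃ y : D.L j, ∀ u ∈ D.U j, u (y : V) = u x := by
      intro j
      set r' : D.L j →ₗ[ZMod p] Dual (ZMod p) (D.U j) :=
        ((Dual.eval (ZMod p) V).comp (D.L j).subtype).flip.comp (D.U j).subtype |>.flip with hr'
      have hinj : Function.Injective r' := by
        intro a b hab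
        refine sub_eq_zero.1 (Subtype.ext ((D.block j).ndL _ (a - b).2 fun u hu => ?_))
        have := LinearMap.congr_fun hab ⟨u, hu⟩
        simpa [hr', sub_eq_zero] using this
      have hsurj : Function.Surjective r' := by
        refine (LinearMap.injective_iff_surjective_of_finrank_eq_finrank ?_).1 hinj
        refine le_antisymm (LinearMap.finrank_le_finrank_of_injective hinj) ?_
        rw [Subspace.dual_finrank_eq]
        set r : D.U j →ₗ[ZMod p] Dual (ZMod p) (D.L j) :=
          (LinearMap.lcomp (ZMod p) (ZMod p) (D.L j).subtype).comp (D.U j).subtype with hr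
        have hri : Function.Injective r := by
          intro u v huv
          refine sub_eq_zero.1 (Subtype.ext ((D.block j).ndU _ (u - v).2 fun z hz => ?_))
          have := LinearMap.congr_fun huv ⟨z, hz⟩
          simpa [hr, sub_eq_zero] using this
        have := LinearMap.finrank_le_finrank_of_injective hri
        rwa [Subspace.dual_finrank_eq] at this
      obtain ⟨y, hy⟩ := hsurj (((Dual.eval (ZMod p) V) x).comp (D.U j).subtype)
      exact ⟨y, fun u hu => by simpa [hr'] using LinearMap.congr_fun hy ⟨u, hu⟩⟩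
    choose y hy using hx
    have h0 : x - ∑ j, (y j : V) ∈ summand D 0 := by
      simp only [summand, Fin.cons_zero, Submodule.mem_iInf, LinearMap.mem_ker]
      intro j u hu
      rw [map_sub, map_sum, Finset.sum_eq_single j (fun k _ hk => D.orth j k (Ne.symm hk) u hu _ (y k).2)
        (fun h => absurd (Finset.mem_univ j) h), hy j u hu, sub_self]
    rw [← sub_add_cancel x (∑ j, (y j : V))]
    refine add_mem (Submodule.mem_iSup_of_mem 0 h0) (sum_mem fun j _ =>
      Submodule.mem_iSup_of_mem j.succ ?_)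
    simpa [summand] using (y j).2

theorem eq_of_eqOn_summand (D : Decomp (pairs H)) {g h : V ≃ₗ[ZMod p] V}
    (he : ∀ i, ∀ x ∈ summand D i, g x = h x) : g = h := by
  refine LinearEquiv.ext fun x => ?_
  have hx : x ∈ ⨆ i, summand D i := by
    rw [(summand_internal D).submodule_iSup_eq_top]; trivial
  induction hx using Submodule.iSup_induction' with
  | mem i y hy => exact he i y hy
  | zero => simp
  | add y z _ _ h1 h2 => rw [map_add, map_add, h1, h2]

theorem main (hp : Odd p) (H : Subgroup (V ≃ₗ[ZMod p] V)) (T : Set (V ≃ₗ[ZMod p] V))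
    (hHT : H = Subgroup.closure T)
    (hT : ∀ t ∈ T, orderOf t = p ∧
      finrank (ZMod p) ↥(LinearMap.ker ((t : V →ₗ[ZMod p] V) - LinearMap.id)) + 1 = finrank (ZMod p) V)
    (hOp : Cfsg.pCore p ↥H = ⊥) :
    ∃ (n : ℕ) (W : Fin (n + 1) → Submodule (ZMod p) V) (K : Fin n → Subgroup (V ≃ₗ[ZMod p] V)),
      1 ≤ n ∧ DirectSum.IsInternal W ∧
      (∀ h ∈ H, ∀ i, (W i).map (h : V →ₗ[ZMod p] V) = W i) ∧
      (∀ j, K j ≤ H ∧ ((K j).subgroupOf H).Normal) ∧ ⨆ j, K j = H ∧
      (∀ j, K j ⊓ (⨆ j' ∈ {j' : Fin n | j' ≠ j}, K j') = ⊥) ∧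
      (∀ j j', j ≠ j' → ∀ a ∈ K j, ∀ b ∈ K j', a * b = b * a) ∧
      (∀ j, ∀ h ∈ K j, ∀ i : Fin (n + 1), i ≠ j.succ → ∀ v ∈ W i, h v = v) ∧
      (∀ j, ∃ ρ : ↥(K j) →* (↥(W j.succ) ≃ₗ[ZMod p] ↥(W j.succ)),
        (∀ (h : ↥(K j)) (v : ↥(W j.succ)), ((ρ h v : ↥(W j.succ)) : V) = (h : V ≃ₗ[ZMod p] V) (v : V)) ∧
        ((ρ.range : Set (↥(W j.succ) ≃ₗ[ZMod p] ↥(W j.succ))) =
            {f : ↥(W j.succ) ≃ₗ[ZMod p] ↥(W j.succ) | LinearMap.det (f : ↥(W j.succ) →ₗ[ZMod p] ↥(W j.succ)) = 1} ∨
          ∃ B : LinearMap.BilinForm (ZMod p) ↥(W j.succ), B.IsAlt ∧ B.Nondegenerate ∧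
            (ρ.range : Set (↥(W j.succ) ≃ₗ[ZMod p] ↥(W j.succ))) = {f : ↥(W j.succ) ≃ₗ[ZMod p] ↥(W j.succ) | ∀ x y, B (f x) (f y) = B x y})) := by
  classical
  have hp2 : p ≠ 2 := fun e => by subst e; exact absurd hp (by decide)
  obtain ⟨D, hn⟩ := exists_blocks hp2 hOp
  set K : Fin D.n → Subgroup (V ≃ₗ[ZMod p] V) := fun j => Subgroup.closure (blockSet H (D.L j)) with hK
  have hWs : ∀ j : Fin D.n, summand D j.succ = D.L j := fun j => by simp [summand]
  have hfix : ∀ j i, i ≠ Fin.succ j → K j ≤ fixSub (summand D i) := fun j i hi => by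
    rw [hK, Subgroup.closure_le]
    rintro g ⟨a, φ, hpair, ha, -, hg⟩ x hx
    rw [hg, summand_killed D hi (blockSet_side D hpair ha) hx, zero_smul, add_zero]
  have hkeep : ∀ j i, K j ≤ keepSub (summand D i) := fun j i => by
    rw [hK, Subgroup.closure_le]
    rintro g ⟨a, φ, hpair, ha, -, hg⟩
    refine keepSub_of_trv hg ?_ hpair.2.2.1
    by_cases hi : i = j.succ
    · exact Or.inl (hi ▸ (hWs j).symm ▸ ha)
    · exact Or.inr fun x hx => summand_killed D hi (blockSet_side D hpair ha) hx
  have hKH : ∀ j, K j ≤ H := fun j => by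
    rw [hK, Subgroup.closure_le]
    rintro g ⟨a, φ, -, -, hg, -⟩
    exact hg
  have hsup : ⨆ j, K j = H := by
    refine le_antisymm (iSup_le hKH) ?_
    refine hHT.le.trans ((Subgroup.closure_le _).2 fun t ht => ?_)
    obtain ⟨a, φ, ha, hφ, h0, htv⟩ := exists_trv (hT t ht).1 (hT t ht).2
    have htH : t ∈ H := hHT ▸ Subgroup.subset_closure ht
    have hpair : (a, φ) ∈ pairs H := ⟨ha, hφ, h0, t, htH, htv⟩
    obtain ⟨j, h1, -⟩ := D.cover a φ hpair
    exact Subgroup.mem_iSup_of_mem j (Subgroup.subset_closure ⟨a, φ, hpair, h1, htH, htv⟩)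
  have hHkeep : ∀ i, H ≤ keepSub (summand D i) := fun i => hsup.ge.trans (iSup_le fun j => hkeep j i)
  refine ⟨D.n, summand D, K, hn, summand_internal D, fun h hh i => ?_, fun j => ⟨hKH j, ?_⟩, hsup,
    fun j => ?_, fun j j' hjj' a ha b hb => ?_, fun j h hh i hi v hv => hfix j i hi hh v hv, fun j => ?_⟩
  · ext x
    constructor
    · rintro ⟨y, hy, rfl⟩
      exact (hHkeep i hh y).2 hy
    · intro hx
      refine ⟨h.symm x, ?_, LinearEquiv.apply_symm_apply h x⟩
      rw [SetLike.mem_coe, ← hHkeep i hh, LinearEquiv.apply_symm_apply]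
      exact hx
  · refine ⟨fun x hx g => ?_⟩
    have hle : K j ≤ (K j).comap (MulAut.conj (g : V ≃ₗ[ZMod p] V)).toMonoidHom := by
      show Subgroup.closure _ ≤ _
      rw [Subgroup.closure_le]
      rintro t ⟨a, φ, hpair, ha, htH, htv⟩
      refine Subgroup.subset_closure ⟨_, _, conj_mem g.2 hpair, ?_,
        mul_mem (mul_mem g.2 htH) (inv_mem g.2), trv_conj htv⟩
      rw [← hWs j] at ha ⊢
      exact (hHkeep j.succ g.2 a).2 ha
    exact hle hx
  · rw [eq_bot_iff]
    rintro x ⟨hx, hx'⟩
    have hle : (⨆ j' ∈ {j' : Fin D.n | j' ≠ j}, K j') ≤ fixSub (summand D j.succ) :=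
      iSup₂_le fun k hk => hfix k _ fun e => hk (Fin.succ_injective _ e).symm
    refine Subgroup.mem_bot.2 (eq_of_eqOn_summand D fun i y hy => ?_)
    by_cases hi : i = j.succ
    · subst hi; exact hle hx' y hy
    · exact hfix j i hi hx y hy
  · refine eq_of_eqOn_summand D fun i y hy => ?_
    rw [LinearEquiv.mul_apply, LinearEquiv.mul_apply]
    by_cases hi : i = j.succ
    · have hib : i ≠ j'.succ := fun e => hjj' (Fin.succ_injective _ (hi.symm.trans e))
      rw [hfix j' i hib hb y hy, hfix j' i hib hb _ ((hkeep j i ha y).2 hy)]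
    · rw [hfix j i hi ha y hy, hfix j i hi ha _ ((hkeep j' i hb y).2 hy)]
  · set L := summand D j.succ with hL
    have hLD : L = D.L j := hWs j
    have hmaps : ∀ g : K j, L.map ((g : V ≃ₗ[ZMod p] V) : V →ₗ[ZMod p] V) = L := by
      intro g
      ext x
      constructor
      · rintro ⟨y, hy, rfl⟩
        exact (hkeep j j.succ g.2 y).2 hy
      · intro hx
        refine ⟨(g : V ≃ₗ[ZMod p] V).symm x, ?_, LinearEquiv.apply_symm_apply _ x⟩
        rw [SetLike.mem_coe, ← hkeep j j.succ g.2, LinearEquiv.apply_symm_apply]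
        exact hx
    let ρ : ↥(K j) →* (↥L ≃ₗ[ZMod p] ↥L) :=
      MonoidHom.mk' (fun g => (g : V ≃ₗ[ZMod p] V).ofSubmodules L L (hmaps g))
        fun g g' => LinearEquiv.ext fun x => Subtype.ext rfl
    refine ⟨ρ, fun _ _ => rfl, ?_⟩
    have hρtrv : ∀ (g : K j) (a : V) (φ : Dual (ZMod p) V) (ha : a ∈ L), IsTrv (g : V ≃ₗ[ZMod p] V) a φ →
        ∀ x, ρ g x = x + (φ.comp L.subtype) x • (⟨a, ha⟩ : L) := fun g a φ ha h x =>
      Subtype.ext (h x)
    have hrange : ∀ R : Subgroup (↥L ≃ₗ[ZMod p] ↥L),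
        (∀ (g : K j) (a : V) (φ : Dual (ZMod p) V), (a, φ) ∈ pairs H → a ∈ L →
          IsTrv (g : V ≃ₗ[ZMod p] V) a φ → ρ g ∈ R) → ρ.range ≤ R := by
      intro R hR
      rintro _ ⟨⟨g, hg⟩, rfl⟩
      induction hg using Subgroup.closure_induction with
      | mem t ht =>
        obtain ⟨a, φ, hpair, ha, htH, htv⟩ := ht
        exact hR _ a φ hpair (hLD ▸ ha) htv
      | one => rw [show (⟨1, _⟩ : K j) = 1 from rfl, map_one]; exact one_mem R
      | mul x y hx hy ihx ihy =>
        rw [show (⟨x * y, _⟩ : K j) = ⟨x, hx⟩ * ⟨y, hy⟩ from rfl, map_mul]; exact mul_mem ihx ihy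
      | inv x hx ih => rw [show (⟨x⁻¹, _⟩ : K j) = ⟨x, hx⟩⁻¹ from rfl, map_inv]; exact inv_mem ih
    have hfromPair : ∀ (a : L) (φ : Dual (ZMod p) V) (t : ↥L ≃ₗ[ZMod p] ↥L), ((a : V), φ) ∈ pairs H →
        (∀ x : L, t x = x + φ x • a) → t ∈ ρ.range := by
      intro a φ t hpair ht
      obtain ⟨g, hgH, hg⟩ := hpair.2.2.2
      refine ⟨⟨g, Subgroup.subset_closure ⟨_, _, hpair, hLD ▸ a.2, hgH, hg⟩⟩, LinearEquiv.ext fun x => ?_⟩
      rw [hρtrv _ _ _ a.2 hg, ht]
      rfl
    rcases (D.block j).type with hfull | ⟨f, -, hf0, hanti, hfP, hfax⟩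
    · left
      apply Set.Subset.antisymm
      · let R : Subgroup (↥L ≃ₗ[ZMod p] ↥L) := (LinearEquiv.det (R := ZMod p) (M := ↥L)).ker
        have := hrange R fun g a φ hpair ha hg => by
          rw [MonoidHom.mem_ker]
          apply Units.ext
          rw [LinearEquiv.coe_det, Units.val_one,
            show ((ρ g : ↥L ≃ₗ[ZMod p] ↥L) : ↥L →ₗ[ZMod p] ↥L) =
              LinearMap.transvection (φ.comp L.subtype) ⟨a, ha⟩ from LinearMap.ext (hρtrv g a φ ha hg),
            LinearMap.transvection.det]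
          simp [hpair.2.2.1]
        intro t ht
        have h1 := this ht
        rw [MonoidHom.mem_ker] at h1
        show LinearMap.det _ = 1
        rw [← LinearEquiv.coe_det, h1, Units.val_one]
      · intro t ht
        refine mem_of_det_one ρ.range (fun g a f hfa hg => ?_) ht
        by_cases h0 : ∀ x, f x • a = 0
        · have : g = 1 := LinearEquiv.ext fun x => by rw [hg, h0, add_zero]; rfl
          rw [this]; exact one_mem _
        push Not at h0
        obtain ⟨x₀, hx₀⟩ := h0
        rw [smul_ne_zero_iff] at hx₀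
        obtain ⟨u, hu, huf⟩ := restrict_surjective D j
          (f.comp (LinearEquiv.ofEq _ _ hLD.symm : D.L j →ₗ[ZMod p] L))
        have huf' : ∀ x : L, u x = f x := fun x => huf ⟨x, hLD ▸ x.2⟩
        refine hfromPair a u g ?_ fun x => by rw [hg, huf']
        exact hfull _ (hLD ▸ a.2) (fun e => hx₀.2 (Subtype.ext e)) u hu
          (fun e => hx₀.1 (by rw [← huf', e]; rfl)) (by rw [huf', hfa])
    · right
      let e : ↥L ≃ₗ[ZMod p] ↥(D.L j) := LinearEquiv.ofEq _ _ hLD
      let B : LinearMap.BilinForm (ZMod p) ↥L :=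
        ((LinearMap.lcomp (ZMod p) (ZMod p) L.subtype).comp f).comp (e : ↥L →ₗ[ZMod p] ↥(D.L j))
      have hB : ∀ x y : L, B x y = f (e x) (y : V) := fun _ _ => rfl
      have he : ∀ x : L, ((e x : D.L j) : V) = x := fun _ => rfl
      have hA : B.IsAlt := fun x => by
        have h := hanti (e x) (e x)
        rw [he] at h
        rw [hB]
        have h2 : (2 : ZMod p) * f (e x) (x : V) = 0 := by linear_combination h
        exact (mul_eq_zero.1 h2).resolve_left (pairs_sys hp2 hOp).two
      have hsep : B.SeparatingLeft := by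
        intro x hx
        by_contra hne
        refine hf0 (e x) (fun h => hne (e.injective (by rw [h, map_zero]))) ?_
        refine (D.block j).ndU _ ?_ fun y hy => hx ⟨y, hLD.symm ▸ hy⟩
        exact blockSet_side D (a := (x : V)) (φ := f (e x))
          (by
            have := hfP (e x) 1 (fun h => hne (e.injective (by rw [h, map_zero]))) one_ne_zero
            rwa [one_smul, he] at this)
          (hLD ▸ x.2)
      refine ⟨B, hA, (LinearMap.IsRefl.nondegenerate_iff_separatingLeft (LinearMap.IsAlt.isRefl hA)).2 hsep, ?_⟩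
      apply Set.Subset.antisymm
      · intro t ht
        refine hrange (CfsgLib.Sp.isom B) (fun g a φ hpair ha hg => ?_) ht
        obtain ⟨c, hc⟩ := hfax a φ hpair (hLD ▸ ha)
        have : ρ g = CfsgLib.Sp.tvec B hA ⟨a, ha⟩ (-c) := LinearEquiv.ext fun x => by
          rw [hρtrv g a φ ha hg, CfsgLib.Sp.tvec_apply, CfsgLib.Sp.alt_flip hA ⟨a, ha⟩ x, neg_mul_neg, hB, hc]
          rfl
        rw [this]
        exact CfsgLib.Sp.tvec_mem_isom _ _
      · intro t ht
        refine isom_le B hA hsep ρ.range (fun v c hv hc => ?_) ht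
        have hev : e v ≠ 0 := fun h => hv (e.injective (by rw [h, map_zero]))
        refine hfromPair v ((-c) • f (e v)) _ (hfP (e v) (-c) hev (neg_ne_zero.2 hc)) fun x => ?_
        rw [CfsgLib.Sp.tvec_apply, CfsgLib.Sp.alt_flip hA v x, mul_neg, ← neg_mul, hB]
        rfl

end CfsgLib.McLaughlin
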