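import Mathlib

/-!
# Systems of transvection pairs

A system is the set of pairs (centre, functional) of the transvections of a group with trivial p-core.
-/

set_option autoImplicit false

namespace CfsgLib.McLaughlin

open Module

variable {F V : Type*} [Field F] [AddCommGroup V] [Module F V]

/-- The closure properties used in the classification. -/
structure Sys (P : Set (V × Dual F V)) : Prop where
  two : (2 : F) ≠ 0
  wf : ∀ ⦃a φ⦄, (a, φ) ∈ P → a ≠ 0 ∧ φ ≠ 0 ∧ φ a = 0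
  smulL : ∀ ⦃a φ⦄, (a, φ) ∈ P → ∀ c : F, c ≠ 0 → (c • a, φ) ∈ P
  smulR : ∀ ⦃a φ⦄, (a, φ) ∈ P → ∀ c : F, c ≠ 0 → (a, c • φ) ∈ P
  addL : ∀ ⦃a φ ψ⦄, (a, φ) ∈ P → (a, ψ) ∈ P → φ + ψ ≠ 0 → (a, φ + ψ) ∈ P
  addR : ∀ ⦃a b φ⦄, (a, φ) ∈ P → (b, φ) ∈ P → a + b ≠ 0 → (a + b, φ) ∈ P
  conj : ∀ ⦃a b φ ψ⦄, (a, φ) ∈ P → (b, ψ) ∈ P → (b + φ b • a, ψ - ψ a • φ) ∈ P
  opp : ∀ ⦃a φ⦄, (a, φ) ∈ P → ∃ b ψ, (b, ψ) ∈ P ∧ φ b ≠ 0 ∧ ψ a ≠ 0
  noRad : ∀ ⦃a b φ ψ⦄, (a, φ) ∈ P → (b, ψ) ∈ P → φ b = 0 → ψ a = 0 →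
    LinearIndependent F ![a, b] → (∀ e η, (e, η) ∈ P → η (a + b) = 0 ∧ φ e = ψ e) → False

variable {P : Set (V × Dual F V)}

namespace Sys

theorem comm (S : Sys P) {a b : V} {φ ψ : Dual F V} (ha : (a, φ) ∈ P) (hb : (b, ψ) ∈ P)
    (h1 : φ b ≠ 0) (h2 : ψ a = 0) : (a, ψ) ∈ P := by
  have h := S.conj ha hb
  rw [h2, zero_smul, sub_zero] at h
  have hb' := S.smulL hb (-1) (neg_ne_zero.2 one_ne_zero)
  have h3 := S.addR h hb' (by
    rw [neg_one_smul, add_comm b, add_neg_cancel_right]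
    exact smul_ne_zero h1 (S.wf ha).1)
  rw [neg_one_smul, add_comm b, add_neg_cancel_right] at h3
  have h4 := S.smulL h3 (φ b)⁻¹ (inv_ne_zero h1)
  rwa [smul_smul, inv_mul_cancel₀ h1, one_smul] at h4

/-- The functionals attached to a point. -/
def axes (S : Sys P) (a : V) : Submodule F (Dual F V) where
  carrier := {φ | φ = 0 ∨ (a, φ) ∈ P}
  zero_mem' := Or.inl rfl
  add_mem' := by
    rintro φ ψ (rfl | h) (rfl | h')
    · exact Or.inl (add_zero _)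
    · exact Or.inr (by rwa [zero_add])
    · exact Or.inr (by rwa [add_zero])
    · by_cases h0 : φ + ψ = 0
      · exact Or.inl h0
      · exact Or.inr (S.addL h h' h0)
  smul_mem' := by
    rintro c φ (rfl | h)
    · exact Or.inl (smul_zero c)
    · by_cases hc : c = 0
      · exact Or.inl (by rw [hc, zero_smul])
      · exact Or.inr (S.smulR h c hc)

variable (S : Sys P)

theorem mem_axes {a : V} {φ : Dual F V} : φ ∈ S.axes a ↔ φ = 0 ∨ (a, φ) ∈ P := Iff.rfl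

theorem mem_axes_of_mem {a : V} {φ : Dual F V} (h : (a, φ) ∈ P) : φ ∈ S.axes a := Or.inr h

theorem mem_of_axes {a : V} {φ : Dual F V} (h : φ ∈ S.axes a) (h0 : φ ≠ 0) : (a, φ) ∈ P :=
  h.resolve_left h0

theorem apply_self {a : V} {φ : Dual F V} (h : φ ∈ S.axes a) : φ a = 0 := by
  rcases h with rfl | h
  · rfl
  · exact (S.wf h).2.2

theorem axes_smul {a : V} {c : F} (hc : c ≠ 0) : S.axes (c • a) = S.axes a := by
  ext φ
  refine ⟨fun h => h.imp id fun h => ?_, fun h => h.imp id fun h => S.smulL h c hc⟩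
  have := S.smulL h c⁻¹ (inv_ne_zero hc)
  rwa [smul_smul, inv_mul_cancel₀ hc, one_smul] at this

theorem axes_neg (a : V) : S.axes (-a) = S.axes a := by
  rw [← neg_one_smul F a, S.axes_smul (neg_ne_zero.2 one_ne_zero)]

/-- `b` has an axis missing `x`. -/
def Adj (x b : V) : Prop := ∃ ψ ∈ S.axes b, ψ x ≠ 0

theorem comm_axes {x b : V} {θ : Dual F V} (h : S.Adj b x) (hθ : θ ∈ S.axes b) (h0 : θ x = 0) :
    θ ∈ S.axes x := by
  obtain ⟨φ, hφ, hφb⟩ := h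
  by_cases hθ0 : θ = 0
  · rw [hθ0]; exact zero_mem _
  · exact S.mem_axes_of_mem (S.comm (S.mem_of_axes hφ fun e => hφb (by rw [e]; rfl))
      (S.mem_of_axes hθ hθ0) hφb h0)

theorem exists_nb {x : V} {θ : Dual F V} (hθ : θ ∈ S.axes x) (h0 : θ ≠ 0) :
    ∃ y, S.Adj x y ∧ θ y ≠ 0 := by
  obtain ⟨y, ψ, hy, h1, h2⟩ := S.opp (S.mem_of_axes hθ h0)
  exact ⟨y, ⟨ψ, S.mem_axes_of_mem hy, h2⟩, h1⟩

end Sys

/-- A connected component of maximal rank. -/
structure Comp (S : Sys P) where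
  /-- a point of the component -/
  base : V
  base_axis : ∃ φ, (base, φ) ∈ P
  max : ∀ x, finrank F (S.axes x) ≤ finrank F (S.axes base)

variable [FiniteDimensional F V] {S : Sys P}

theorem exists_comp (S : Sys P) (hne : P.Nonempty) : Nonempty (Comp S) := by
  classical
  let R : Set ℕ := {n | ∃ a φ, (a, φ) ∈ P ∧ finrank F (S.axes a) = n}
  obtain ⟨⟨a, φ⟩, h⟩ := hne
  have hR : R.Nonempty := ⟨_, a, φ, h, rfl⟩
  have hb : BddAbove R := ⟨finrank F (Dual F V), by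
    rintro n ⟨a, -, -, rfl⟩; exact Submodule.finrank_le _⟩
  obtain ⟨b, ψ, hb', he⟩ := Nat.sSup_mem hR hb
  refine ⟨⟨b, ⟨ψ, hb'⟩, fun x => ?_⟩⟩
  by_cases hx : ∃ χ, (x, χ) ∈ P
  · obtain ⟨χ, hχ⟩ := hx
    rw [he]
    exact le_csSup hb ⟨x, χ, hχ, rfl⟩
  · push Not at hx
    have : S.axes x = ⊥ := by
      rw [Submodule.eq_bot_iff]
      exact fun χ hχ => hχ.resolve_right (hx χ)
    rw [this]; simp

namespace Comp

variable (C : Comp S)

/-- The maximal rank. -/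
noncomputable def rank : ℕ := finrank F (S.axes C.base)

/-- The points of the component. -/
def pts : Set V := {x | Relation.ReflTransGen S.Adj C.base x}

theorem base_mem : C.base ∈ C.pts := Relation.ReflTransGen.refl

theorem adj_symm_of_rank {x b : V} (hx : finrank F (S.axes x) = C.rank) (h : S.Adj x b) :
    S.Adj b x := by
  obtain ⟨ψ, hψ, hψx⟩ := h
  by_contra hno
  have hzero : ∀ φ ∈ S.axes x, φ b = 0 := fun φ hφ => by
    by_contra h0; exact hno ⟨φ, hφ, h0⟩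
  have hle : S.axes x ≤ S.axes b := fun φ hφ => S.comm_axes ⟨ψ, hψ, hψx⟩ hφ (hzero φ hφ)
  have hlt : S.axes x < S.axes b :=
    lt_of_le_of_ne hle fun e => hψx (S.apply_self (show ψ ∈ S.axes x by rw [e]; exact hψ))
  have h1 := Submodule.finrank_lt_finrank_of_lt hlt
  have h2 := C.max b
  rw [← Comp.rank, ← hx] at h2
  omega

theorem rank_step {x b : V} (hx : finrank F (S.axes x) = C.rank) (h : S.Adj x b) :
    finrank F (S.axes b) = C.rank := by
  have h' := C.adj_symm_of_rank hx h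
  obtain ⟨ψ, hψ, hψx⟩ := h
  obtain ⟨φ, hφ, hφb⟩ := h'
  refine le_antisymm (C.max b) ?_
  set E : Submodule F (Dual F V) := S.axes x ⊓ LinearMap.ker (Dual.eval F V b) with hE
  have hEb : E ≤ S.axes b := fun θ hθ => S.comm_axes ⟨ψ, hψ, hψx⟩ hθ.1 hθ.2
  have h1 : S.axes x ≤ E ⊔ F ∙ φ := by
    intro θ hθ
    have hrest : θ - (θ b / φ b) • φ ∈ E := by
      refine ⟨sub_mem hθ (Submodule.smul_mem _ _ hφ), ?_⟩
      show (θ - (θ b / φ b) • φ) b = 0
      simp [hφb]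
    rw [← sub_add_cancel θ ((θ b / φ b) • φ)]
    exact Submodule.add_mem_sup hrest (Submodule.smul_mem _ _ (Submodule.mem_span_singleton_self φ))
  have h2 : E < S.axes b :=
    lt_of_le_of_ne hEb fun e => hψx (S.apply_self ((e ▸ hψ : ψ ∈ E)).1)
  have h3 := Submodule.finrank_lt_finrank_of_lt h2
  have h4 := (Submodule.finrank_mono h1).trans (Submodule.finrank_add_le_finrank_add_finrank E (F ∙ φ))
  have h5 : finrank F (F ∙ φ) = 1 := finrank_span_singleton fun e => hφb (by rw [e]; rfl)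
  omega

theorem rank_eq {x : V} (hx : x ∈ C.pts) : finrank F (S.axes x) = C.rank := by
  induction hx with
  | refl => rfl
  | tail _ h ih => exact C.rank_step ih h

theorem adj_symm {x b : V} (hx : x ∈ C.pts) (h : S.Adj x b) : S.Adj b x :=
  C.adj_symm_of_rank (C.rank_eq hx) h

theorem sat {x b : V} {ψ : Dual F V} (hx : x ∈ C.pts) (hψ : ψ ∈ S.axes b) (h : ψ x ≠ 0) :
    b ∈ C.pts := Relation.ReflTransGen.tail hx ⟨ψ, hψ, h⟩

theorem sat' {x b : V} {φ η : Dual F V} (hx : x ∈ C.pts) (hφ : φ ∈ S.axes x) (h : φ b ≠ 0)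
    (hη : (b, η) ∈ P) : b ∈ C.pts := by
  by_cases h0 : η x = 0
  · have hxη := S.comm (S.mem_of_axes hφ fun e => h (by rw [e]; rfl)) hη h h0
    obtain ⟨d, δ, hd, h1, h2⟩ := S.opp hxη
    exact C.sat (C.sat hx (S.mem_axes_of_mem hd) h2) (S.mem_axes_of_mem hη) h1
  · exact C.sat hx (S.mem_axes_of_mem hη) h0

theorem exists_axis {x : V} (hx : x ∈ C.pts) : ∃ φ, (x, φ) ∈ P := by
  rcases Relation.ReflTransGen.cases_tail hx with h | ⟨y, -, ψ, hψ, hψy⟩
  · exact h ▸ C.base_axis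
  · exact ⟨ψ, S.mem_of_axes hψ fun e => hψy (by rw [e]; rfl)⟩

theorem ne_zero {x : V} (hx : x ∈ C.pts) : x ≠ 0 := by
  obtain ⟨φ, h⟩ := C.exists_axis hx
  exact (S.wf h).1

theorem one_le_rank : 1 ≤ C.rank := by
  obtain ⟨φ, h⟩ := C.base_axis
  have : S.axes C.base ≠ ⊥ := fun e => (S.wf h).2.1 (by
    have := S.mem_axes_of_mem h; rwa [e, Submodule.mem_bot] at this)
  exact Submodule.one_le_finrank_iff.2 this

theorem exists_adj {x : V} (hx : x ∈ C.pts) : ∃ y ∈ C.pts, S.Adj x y ∧ S.Adj y x := by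
  obtain ⟨φ, h⟩ := C.exists_axis hx
  obtain ⟨y, ψ, hy, -, h2⟩ := S.opp h
  exact ⟨y, C.sat hx (S.mem_axes_of_mem hy) h2, ⟨ψ, S.mem_axes_of_mem hy, h2⟩,
    C.adj_symm hx ⟨ψ, S.mem_axes_of_mem hy, h2⟩⟩

theorem smul_mem {x : V} (hx : x ∈ C.pts) {c : F} (hc : c ≠ 0) : c • x ∈ C.pts := by
  obtain ⟨y, hy, -, φ, hφ, hφy⟩ := C.exists_adj hx
  exact C.sat hy (by rw [S.axes_smul hc]; exact hφ) hφy

theorem neg_mem {x : V} (hx : x ∈ C.pts) : -x ∈ C.pts := by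
  rw [← neg_one_smul F x]
  exact C.smul_mem hx (neg_ne_zero.2 one_ne_zero)

/-- The span of the functionals of the component. -/
def U : Submodule F (Dual F V) := ⨆ x ∈ C.pts, S.axes x

theorem axes_le_U {x : V} (hx : x ∈ C.pts) : S.axes x ≤ C.U := le_iSup₂_of_le x hx le_rfl

theorem U_kills {b : V} {η : Dual F V} (hb : (b, η) ∈ P) (hnot : b ∉ C.pts) {u : Dual F V}
    (hu : u ∈ C.U) : u b = 0 := by
  have : C.U ≤ LinearMap.ker (Dual.eval F V b) := iSup₂_le fun x hx φ hφ => by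
    by_contra h
    exact hnot (C.sat' hx hφ h hb)
  exact this hu

theorem kills_pts {b : V} {η : Dual F V} (hb : (b, η) ∈ P) (hnot : b ∉ C.pts) {x : V}
    (hx : x ∈ C.pts) : η x = 0 := by
  by_contra h
  exact hnot (C.sat hx (S.mem_axes_of_mem hb) h)

theorem eq_zero_of_killed {x : V} (hx : x ∈ C.pts) {θ : Dual F V} (hθ : θ ∈ S.axes x)
    (h : ∀ y ∈ C.pts, θ y = 0) : θ = 0 := by
  by_contra h0
  obtain ⟨y, ⟨ψ, hψ, hψx⟩, hy⟩ := S.exists_nb hθ h0
  exact hy (h y (C.sat hx hψ hψx))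

/-- A vector killed by `U` shares no functional with the component. -/
theorem not_shared {x d : V} (hx : x ∈ C.pts) {φ : Dual F V} (hφ : φ ∈ S.axes x)
    (hd : ∀ u ∈ C.U, u d = 0) : (d, φ) ∉ P := by
  intro h
  obtain ⟨e, η, he, h1, h2⟩ := S.opp h
  exact h2 (hd η (C.axes_le_U (C.sat' hx hφ h1 he) (S.mem_axes_of_mem he)))

end Comp

end CfsgLib.McLaughlin
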